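import Cfsg.Agent.Bender85.Defs
import Cfsg.Agent.Bender20.Semilinear

/-!
The two-point stabiliser when the involutions at a point commute and nothing outside `1` in it
centralises all of them: `D = K : B` with `K` cyclic, regular and inverted, `B` cyclic and fixing
a common involution.
-/

set_option autoImplicit false

namespace Cfsg.Agent.Bender27

open Subgroup MulAction Bender43 Bender43.Fixed Bender85

universe u

variable {G : Type u} [Group G] {H : Subgroup G}

/-- The involutions at a point commute. -/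
theorem commute_invAt (hZ : Comm H) {a : G ⧸ H} {x y : G} (hx : x ∈ invAt H a) (hy : y ∈ invAt H a) :
    Commute x y := by
  obtain ⟨g, rfl⟩ := QuotientGroup.mk_surjective a
  have hc : ∀ v : G, v ∈ invAt H (QuotientGroup.mk g) →
      MulAut.conj g⁻¹ v ∈ H ∧ orderOf (MulAut.conj g⁻¹ v) = 2 := fun v hv =>
    ⟨by simpa using TwoFusionB.smul_mk_eq_iff.1 hv.2, (MulEquiv.orderOf_eq _ v).trans hv.1⟩
  have h := hZ _ (hc x hx).1 _ (hc y hy).1 (hc x hx).2 (hc y hy).2
  exact (MulAut.conj g⁻¹).injective ((map_mul _ _ _).trans (h.eq.trans (map_mul _ _ _).symm))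

/-- `1` and the involutions at a point. -/
def invSub (hZ : Comm H) (a : G ⧸ H) : Subgroup G where
  carrier := {x | x = 1 ∨ x ∈ invAt H a}
  one_mem' := Or.inl rfl
  mul_mem' := by
    intro x y hx hy
    rcases hx with rfl | hx
    · simpa using hy
    rcases hy with rfl | hy
    · simpa using Or.inr hx
    by_cases h : x * y = 1
    · exact Or.inl h
    · refine Or.inr ⟨BenderCons37.orderOf_eq_two h ?_, ?_⟩
      · have := (commute_invAt hZ hx hy).eq
        calc x * y * (x * y) = x * (y * x) * y := by group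
          _ = x * x * (y * y) := by rw [← this]; group
          _ = 1 := by rw [TwoFusionB.sq_eq_one_of_inv hx.1, TwoFusionB.sq_eq_one_of_inv hy.1, one_mul]
      · rw [mul_smul, hy.2, hx.2]
  inv_mem' := by
    intro x hx
    rcases hx with rfl | hx
    · exact Or.inl inv_one
    · exact Or.inr (by rw [TwoFusionB.inv_eq_of_inv hx.1]; exact hx)

theorem mul_self_invSub (hZ : Comm H) {a : G ⧸ H} {x : G} (hx : x ∈ invSub hZ a) : x * x = 1 := by
  rcases hx with rfl | hx
  · exact one_mul 1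
  · exact TwoFusionB.sq_eq_one_of_inv hx.1

theorem conj_mem_invSub (hZ : Comm H) {a : G ⧸ H} {d : G} (hd : d • a = a) {x : G}
    (hx : x ∈ invSub hZ a) : d * x * d⁻¹ ∈ invSub hZ a := by
  rcases hx with rfl | hx
  · exact Or.inl (by simp)
  · exact Or.inr ⟨by rw [TwoFusionB.orderOf_conj_eq, hx.1],
      by rw [mul_smul, mul_smul, inv_smul_eq_iff.2 hd.symm, hx.2, hd]⟩

/-- The action of `G_ab` on `invSub`. -/
def conjAct (hZ : Comm H) (a b : G ⧸ H) : (stab2 a b : Subgroup G) →* MulAut (invSub hZ a) :=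
  MonoidHom.mk'
    (fun d =>
      { toFun := fun x => ⟨d * x * (d : G)⁻¹,
          conj_mem_invSub hZ (mem_stabilizer_iff.1 (mem_inf.1 d.2).1) x.2⟩
        invFun := fun x => ⟨(d : G)⁻¹ * x * d, by
          have h := conj_mem_invSub hZ (d := (d : G)⁻¹)
            (inv_smul_eq_iff.2 (mem_stabilizer_iff.1 (mem_inf.1 d.2).1).symm) x.2
          rwa [inv_inv] at h⟩
        left_inv := fun x => Subtype.ext (by simp [mul_assoc])
        right_inv := fun x => Subtype.ext (by simp [mul_assoc])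
        map_mul' := fun x y => Subtype.ext (by simp [mul_assoc]) })
    (fun d e => MulEquiv.ext fun x => Subtype.ext (by simp [mul_assoc]))

theorem conjAct_apply (hZ : Comm H) {a b : G ⧸ H} (d : (stab2 a b : Subgroup G))
    (x : invSub hZ a) : (conjAct hZ a b d x : G) = d * x * (d : G)⁻¹ := rfl

/-- Every involution at `a` is reached from a given one by an element inverted by `u`. -/
theorem exists_inverted [Finite G] (hH : Cfsg.IsStronglyEmbedded H) {u : G} {a b c : G ⧸ H}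
    (hu : Swap H u a b c) {z z' : G} (hz : z ∈ invAt H a) (hz' : z' ∈ invAt H a) :
    ∃ x ∈ stab2 a b, u * x * u = x⁻¹ ∧ x * z * x⁻¹ = z' := by
  have huu := TwoFusionB.sq_eq_one_of_inv hu.inv
  have hy : (u * z * u) • b = b := by
    rw [mul_smul, mul_smul, TwoFusionB.smul_swap hu.inv hu.swap, hz.2, hu.swap]
  have hy2 : orderOf (u * z * u) = 2 := by
    conv_lhs => arg 1; arg 2; rw [← TwoFusionB.inv_eq_of_inv hu.inv]
    rw [TwoFusionB.orderOf_conj_eq, hz.1]
  obtain ⟨s, hs, hsa, hss⟩ := TwoFusionB.exists_swap_conj hH hz'.1 hy2 hz'.2 hy hu.ne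
  have hsi := TwoFusionB.inv_eq_of_inv hs
  have hss2 := TwoFusionB.sq_eq_one_of_inv hs
  have hui := TwoFusionB.inv_eq_of_inv hu.inv
  refine ⟨s * u, mem_inf.2 ⟨?_, ?_⟩, ?_, ?_⟩
  · rw [mem_stabilizer_iff, mul_smul, hu.swap, TwoFusionB.smul_swap hs hsa]
  · rw [mem_stabilizer_iff, mul_smul, TwoFusionB.smul_swap hu.inv hu.swap, hsa]
  · rw [mul_inv_rev, hui, hsi, mul_assoc, mul_assoc, huu, mul_one]
  · rw [mul_inv_rev, hui, hsi]
    calc s * u * z * (u * s) = s * (u * z * u) * s := by group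
      _ = s * (s * z' * s) * s := by rw [hss]
      _ = (s * s) * z' * (s * s) := by group
      _ = z' := by rw [hss2, one_mul, mul_one]

/-- The structure of `G_ab`. -/
structure DStruct (u z : G) (a b : G ⧸ H) (K B : Subgroup G) : Prop where
  K_le : K ≤ stab2 a b
  B_le : B ≤ stab2 a b
  prod : ∀ d ∈ stab2 a b, ∃ k ∈ K, ∃ y ∈ B, d = k * y
  inf : K ⊓ B = ⊥
  K_cyclic : IsCyclic K
  B_cyclic : IsCyclic B
  z_mem : z ∈ invAt H a
  inverts : ∀ k ∈ K, u * k * u = k⁻¹
  mem_K : ∀ d ∈ stab2 a b, u * d * u = d⁻¹ → d ∈ K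
  reg : ∀ v ∈ invAt H a, ∀ w ∈ invAt H a, ∃ k ∈ K, k * v * k⁻¹ = w
  free : ∀ k ∈ K, ∀ v ∈ invAt H a, Commute k v → k = 1
  B_u : ∀ y ∈ B, Commute u y
  mem_B : ∀ d ∈ stab2 a b, Commute u d → d ∈ B
  B_z : ∀ y ∈ B, Commute z y
  B_norm : ∀ d ∈ stab2 a b, ∀ k ∈ K, d * k * d⁻¹ ∈ K
  cent : ∀ d ∈ stab2 a b, (∀ k ∈ K, Commute d k) → d ∈ K
  card_K : Nat.card K = (invAt H a).ncard
  card_B : ∀ e : ℕ, (invAt H a).ncard + 1 = 2 ^ e → Nat.card B ∣ e
  card_fixed : ∀ y ∈ B,
    ({v | v ∈ invAt H a ∧ Commute v y}.ncard + 1) ^ orderOf y = (invAt H a).ncard + 1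

/-- When only `1` in `G_ab` centralises all involutions at `a`, `G_ab` is `K : B`. -/
theorem exists_dStruct (hC : Ctx H) (hZ : Comm H) {u : G} {a b c : G ⧸ H} (hu : Swap H u a b c)
    (hW : ∀ d ∈ stab2 a b, (∀ v ∈ invAt H a, Commute d v) → d = 1) :
    ∃ (z : G) (K B : Subgroup G), DStruct u z a b K B := by
  classical
  haveI := hC.fin
  have hui := TwoFusionB.inv_eq_of_inv hu.inv
  have huu := TwoFusionB.sq_eq_one_of_inv hu.inv
  set D : Subgroup G := stab2 a b with hD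
  have hodd : Odd (Nat.card D) := odd_stab2 hC.se hu.ne
  set φ := conjAct hZ a b with hφ
  obtain ⟨v0, hv0⟩ : ∃ v, v ∈ invAt H a := by
    obtain ⟨g, rfl⟩ := QuotientGroup.mk_surjective a
    obtain ⟨x, hxH, hx⟩ := TwoFusionB.exists_inv_mem hC.se
    exact ⟨g * x * g⁻¹, by rw [TwoFusionB.orderOf_conj_eq, hx],
      TwoFusionB.smul_mk_eq_iff.2 (by simpa [mul_assoc] using hxH)⟩
  haveI : Nontrivial (invSub hZ a) :=
    ⟨⟨⟨v0, Or.inr hv0⟩, 1, fun h => TwoFusionB.ne_one_of_inv hv0.1 (congrArg Subtype.val h)⟩⟩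
  have hmem : ∀ x : invSub hZ a, x ≠ 1 → (x : G) ∈ invAt H a := fun x hx =>
    x.2.resolve_left fun h => hx (Subtype.ext h)
  have hnem : ∀ {v : G} (hv : v ∈ invAt H a), (⟨v, Or.inr hv⟩ : invSub hZ a) ≠ 1 := fun hv h =>
    TwoFusionB.ne_one_of_inv hv.1 (congrArg Subtype.val h)
  have htr : ∀ x y : invSub hZ a, x ≠ 1 → y ≠ 1 → ∃ d : D, φ d x = y := fun x y hx hy => by
    obtain ⟨d, hd, -, h⟩ := exists_inverted hC.se hu (hmem x hx) (hmem y hy)
    exact ⟨⟨d, hd⟩, Subtype.ext h⟩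
  obtain ⟨M, hM⟩ := Bender20.exists_mulPart hodd φ
    (fun x => Subtype.ext (mul_self_invSub hZ x.2)) htr
  have hinj : Function.Injective φ := by
    rw [injective_iff_map_eq_one]
    intro d hd
    refine Subtype.ext (hW d d.2 fun v hv => mul_inv_eq_iff_eq_mul.1 ?_)
    exact congrArg (fun f : MulAut (invSub hZ a) => (f ⟨v, Or.inr hv⟩ : G)) hd
  have hcommM : ∀ x ∈ M, ∀ y ∈ M, x * y = y * x := fun x hx y hy => by
    haveI := hM.cyclic
    refine hinj ?_
    rw [map_mul, map_mul]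
    haveI : IsMulCommutative (M.map φ) := IsCyclic.isMulCommutative
    exact congrArg Subtype.val (mul_comm'
      (⟨φ x, mem_map_of_mem φ hx⟩ : M.map φ) ⟨φ y, mem_map_of_mem φ hy⟩)
  -- conjugation by `u`
  have huD : ∀ d : G, d ∈ D → u * d * u ∈ D := fun d hd => by
    have h := (mem_normalizer_iff.1 (norm_stab2 hu.inv hu.swap) d).1 hd
    rwa [hui] at h
  let α : D →* D := MonoidHom.mk' (fun d => ⟨u * d * u, huD d d.2⟩) fun d e => Subtype.ext (by
    show u * ((d : G) * e) * u = u * d * u * (u * e * u)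
    calc u * ((d : G) * e) * u = u * d * (u * u) * e * u := by rw [huu]; group
      _ = _ := by group)
  have hαα : ∀ d, α (α d) = d := fun d => Subtype.ext (by
    show u * (u * (d : G) * u) * u = d
    calc u * (u * (d : G) * u) * u = (u * u) * d * (u * u) := by group
      _ = d := by rw [huu, one_mul, mul_one])
  have hαM : ∀ m ∈ M, α m ∈ M := by
    intro m hm
    refine hM.largest (M.comap α) (hM.normal.comap α) ?_ (by rw [mem_comap, hαα]; exact hm)
    intro x hx y hy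
    have h : x * y = y * x := by
      have := congrArg α (hcommM _ hx _ hy)
      rwa [map_mul, map_mul, hαα, hαα] at this
    rw [← map_mul, h, map_mul]
  haveI := hM.normal
  haveI hMc : IsCyclic M :=
    (M.equivMapOfInjective φ hinj).isCyclic.2 hM.cyclic
  have hMnorm : ∀ (x : D), ∀ m ∈ M, x * m * x⁻¹ ∈ M := fun x m hm => hM.normal.conj_mem m hm x
  -- `α` is trivial modulo `M`
  have hαtriv : ∀ x : D, x⁻¹ * α x ∈ M := by
    intro x
    refine hM.cent _ fun m hm => ?_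
    rw [← map_mul, ← map_mul]
    congr 1
    let fα : M →* M := MonoidHom.mk' (fun y => ⟨α y, hαM y y.2⟩)
      fun y y' => Subtype.ext (map_mul α (y : D) y')
    let fx : M →* M := MonoidHom.mk' (fun y => ⟨x * y * x⁻¹, hMnorm x y y.2⟩)
      fun y y' => Subtype.ext (by simp [mul_assoc])
    obtain ⟨i, hi⟩ := MonoidHom.map_cyclic fα
    obtain ⟨j, hj⟩ := MonoidHom.map_cyclic fx
    have hc : fα (fx (fα ⟨m, hm⟩)) = fx (fα (fα ⟨m, hm⟩)) := by
      simp only [hi, hj, ← zpow_mul]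
      congr 1
      ring
    have h1 := congrArg Subtype.val hc
    change α (x * α m * x⁻¹) = x * α (α m) * x⁻¹ at h1
    rw [map_mul, map_mul, map_inv, hαα] at h1
    calc x⁻¹ * α x * m = x⁻¹ * (α x * m * (α x)⁻¹) * α x := by group
      _ = x⁻¹ * (x * m * x⁻¹) * α x := by rw [h1]
      _ = m * (x⁻¹ * α x) := by group
  have hsqrt : ∀ m : D, ∃ k : ℕ, m ^ k * m ^ k = m := fun m => by
    obtain ⟨k, hk⟩ := hodd.of_dvd_nat (orderOf_dvd_natCard m)
    refine ⟨k + 1, ?_⟩
    rw [← pow_add, show k + 1 + (k + 1) = 2 * k + 1 + 1 by ring, pow_succ, ← hk,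
      pow_orderOf_eq_one, one_mul]
  have hinvM : ∀ x : D, α x = x⁻¹ → x ∈ M := fun x hx => by
    have h := hαtriv x
    rw [hx] at h
    obtain ⟨k, hk⟩ := hsqrt x
    rw [← hk, ← pow_add, ← two_mul, pow_mul, pow_two]
    exact pow_mem (by simpa using M.inv_mem h) k
  have hfree : ∀ m ∈ M, ∀ x : invSub hZ a, x ≠ 1 → φ m x = x → m = 1 := fun m hm x hx h =>
    hinj ((hM.fpf m hm x hx h).trans (map_one φ).symm)
  have hαinv : ∀ {x : D}, u * (x : G) * u = (x : G)⁻¹ → α x = x⁻¹ := fun h => Subtype.ext h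
  have hall : ∀ m ∈ M, α m = m⁻¹ := by
    intro m hm
    obtain ⟨x, hxD, hxu, hxz⟩ := exists_inverted hC.se hu hv0
      (hmem (φ m ⟨v0, Or.inr hv0⟩) (fun h => hnem hv0 ((φ m).injective (h.trans (map_one _).symm))))
    have hxM := hinvM ⟨x, hxD⟩ (hαinv hxu)
    have h1 : m⁻¹ * ⟨x, hxD⟩ = 1 := by
      refine hfree _ (mul_mem (inv_mem hm) hxM) ⟨v0, Or.inr hv0⟩ (hnem hv0) ?_
      rw [map_mul, MulAut.mul_apply, map_inv, MulAut.inv_apply, MulEquiv.symm_apply_eq]
      exact Subtype.ext hxz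
    rw [inv_mul_eq_one] at h1
    rw [h1]
    exact hαinv hxu
  set B : Subgroup G := D ⊓ centralizer ({u} : Set G) with hB
  have hBα : ∀ {d : D}, (d : G) ∈ B ↔ α d = d := fun {d} => by
    rw [hB, mem_inf, mem_centralizer_singleton_iff]
    refine ⟨fun h => Subtype.ext ?_, fun h => ⟨d.2, ?_⟩⟩
    · show u * (d : G) * u = d
      rw [mul_assoc, h.2, ← mul_assoc, huu, one_mul]
    · conv_rhs => rw [← congrArg Subtype.val h]
      show (d : G) * u = u * (u * d * u)
      rw [← mul_assoc, ← mul_assoc, huu, one_mul]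
  have hint : ∀ d : D, d ∈ M → (d : G) ∈ B → d = 1 := fun d hd hdB => by
    have h2 : d * d = 1 := by
      have := hall d hd
      rw [hBα.1 hdB] at this
      exact mul_eq_one_iff_eq_inv.2 this
    obtain ⟨k, hk⟩ := hodd.of_dvd_nat (orderOf_dvd_natCard d)
    have := pow_orderOf_eq_one d
    rwa [hk, pow_succ, pow_mul, pow_two, h2, one_pow, one_mul] at this
  obtain ⟨g, hg⟩ := hM.exists_gen
  haveI hQ : IsCyclic (D ⧸ M) := by
    refine isCyclic_of_surjective ((QuotientGroup.mk' M).comp (zpowers g).subtype) fun q => ?_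
    obtain ⟨d, rfl⟩ := QuotientGroup.mk'_surjective M q
    obtain ⟨m, hm, w, hw, rfl⟩ := mem_sup_of_normal_left.1 (hg ▸ mem_top d)
    exact ⟨⟨w, hw⟩, by rw [map_mul, show QuotientGroup.mk' M m = 1 from (QuotientGroup.eq_one_iff m).2 hm, one_mul]; rfl⟩
  let f : B →* D ⧸ M := (QuotientGroup.mk' M).comp (Subgroup.inclusion (inf_le_left : B ≤ D))
  have hf : Function.Injective f := by
    rw [injective_iff_map_eq_one]
    intro y hy
    have h := hint _ ((QuotientGroup.eq_one_iff _).1 hy) y.2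
    exact Subtype.ext (congrArg Subtype.val h :)
  haveI hBc : IsCyclic B := isCyclic_of_injective f hf
  obtain ⟨y, hy⟩ := IsCyclic.exists_generator (α := B)
  obtain ⟨zz, hzz, hyz⟩ := hM.exists_fixed (Subgroup.inclusion inf_le_left y) (fun n hn => by
    rw [← map_pow] at hn ⊢
    obtain ⟨m, hm, hmn⟩ := hn
    have e := hinj hmn
    rw [e] at hm
    have h := hint _ hm (by exact pow_mem y.2 n)
    rw [h, map_one])
  have hBz : ∀ w ∈ B, Commute (zz : G) w := fun w hw => by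
    obtain ⟨n, hn⟩ := mem_zpowers_iff.1 (hy ⟨w, hw⟩)
    have h1 : Commute (zz : G) (y : G) := (mul_inv_eq_iff_eq_mul.1 (congrArg Subtype.val hyz)).symm
    have := h1.zpow_right n
    rwa [← Subgroup.coe_zpow, hn] at this
  have hKmem : ∀ {k : G}, k ∈ M.map D.subtype → ∃ h : k ∈ D, (⟨k, h⟩ : D) ∈ M := by
    rintro _ ⟨m, hm, rfl⟩
    exact ⟨m.2, hm⟩
  refine ⟨zz, M.map D.subtype, B,
    { K_le := map_subtype_le M, B_le := inf_le_left, prod := ?_, inf := ?_,
      K_cyclic := (M.equivMapOfInjective D.subtype D.subtype_injective).isCyclic.1 hMc,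
      B_cyclic := hBc, z_mem := hmem zz hzz, inverts := ?_, mem_K := ?_, reg := ?_, free := ?_,
      B_u := fun w hw => (mem_centralizer_singleton_iff.1 (mem_inf.1 hw).2).symm,
      mem_B := fun d hd h => mem_inf.2 ⟨hd, mem_centralizer_singleton_iff.2 h.eq.symm⟩,
      B_z := hBz, B_norm := ?_, cent := ?_, card_K := ?_, card_B := ?_, card_fixed := ?_ }⟩
  · intro d hd
    obtain ⟨k, hk⟩ := hsqrt ((⟨d, hd⟩ : D)⁻¹ * α ⟨d, hd⟩)
    set n := ((⟨d, hd⟩ : D)⁻¹ * α ⟨d, hd⟩) ^ k with hn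
    have hnM : n ∈ M := pow_mem (hαtriv _) k
    set w : D := ⟨d, hd⟩ * n with hw
    have hwB : (w : G) ∈ B := hBα.2 (by
      rw [hw, map_mul, hall n hnM, mul_inv_eq_iff_eq_mul, mul_assoc, hk, mul_inv_cancel_left])
    refine ⟨((w * n⁻¹ * w⁻¹ : D) : G), mem_map_of_mem _ (hMnorm w _ (inv_mem hnM)), w, hwB, ?_⟩
    rw [← Subgroup.coe_mul, inv_mul_cancel_right, hw, mul_inv_cancel_right]
  · rw [eq_bot_iff]
    intro x hx
    obtain ⟨h, hm⟩ := hKmem (mem_inf.1 hx).1
    exact mem_bot.2 (congrArg Subtype.val (hint ⟨x, h⟩ hm (mem_inf.1 hx).2))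
  · intro k hk
    obtain ⟨h, hm⟩ := hKmem hk
    exact congrArg Subtype.val (hall ⟨k, h⟩ hm)
  · intro d hd h
    exact ⟨⟨d, hd⟩, hinvM _ (hαinv h), rfl⟩
  · intro v hv w hw
    obtain ⟨x, hxD, hxu, hx⟩ := exists_inverted hC.se hu hv hw
    exact ⟨x, ⟨⟨x, hxD⟩, hinvM _ (hαinv hxu), rfl⟩, hx⟩
  · intro k hk v hv hkv
    obtain ⟨h, hm⟩ := hKmem hk
    exact congrArg Subtype.val (hfree ⟨k, h⟩ hm ⟨v, Or.inr hv⟩ (hnem hv)
      (Subtype.ext (mul_inv_eq_iff_eq_mul.2 hkv.eq)))
  · intro d hd k hk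
    obtain ⟨h, hm⟩ := hKmem hk
    exact ⟨_, hMnorm ⟨d, hd⟩ _ hm, rfl⟩
  · intro d hd h
    refine ⟨⟨d, hd⟩, hM.cent _ (fun m hm => ?_), rfl⟩
    rw [← map_mul, ← map_mul]
    exact congrArg φ (Subtype.ext (h m (mem_map_of_mem D.subtype hm)).eq)
  · rw [Subgroup.card_map_of_injective D.subtype_injective, ← Nat.card_coe_set_eq]
    refine Nat.card_eq_of_bijective (fun m : M => (⟨(φ m zz : G), hmem _ fun h =>
      hzz ((φ m).injective (h.trans (map_one _).symm))⟩ : invAt H a)) ⟨fun m m' h => ?_, fun v => ?_⟩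
    · have h' : φ m zz = φ m' zz := Subtype.ext (congrArg (fun v : invAt H a => (v : G)) h)
      have h1 : (m' : D)⁻¹ * (m : D) = 1 := by
        refine hfree _ (mul_mem (inv_mem m'.2) m.2) zz hzz ?_
        rw [map_mul, MulAut.mul_apply, map_inv, MulAut.inv_apply, h', MulEquiv.symm_apply_apply]
      exact Subtype.ext (inv_mul_eq_one.1 h1).symm
    · obtain ⟨x, hxD, hxu, hx⟩ := exists_inverted hC.se hu (hmem zz hzz) v.2
      exact ⟨⟨⟨x, hxD⟩, hinvM _ (hαinv hxu)⟩, Subtype.ext hx⟩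
  · intro e he
    have hcard : Nat.card (invSub hZ a) = 2 ^ e := by
      rw [← he, show Nat.card (invSub hZ a) = (insert (1 : G) (invAt H a)).ncard from
        (Nat.card_coe_set_eq _).trans (congrArg Set.ncard (Set.ext fun x => Iff.rfl))]
      exact Set.ncard_insert_of_notMem fun h => TwoFusionB.ne_one_of_inv h.1 rfl
    refine (Subgroup.card_dvd_of_injective f hf).trans ?_
    rw [← Subgroup.index_eq_card]
    exact hM.index_dvd e hcard
  · intro y hy
    have hcardZ : Nat.card (invSub hZ a) = (invAt H a).ncard + 1 := by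
      rw [show Nat.card (invSub hZ a) = (insert (1 : G) (invAt H a)).ncard from
        (Nat.card_coe_set_eq _).trans (congrArg Set.ncard (Set.ext fun x => Iff.rfl))]
      exact Set.ncard_insert_of_notMem fun h => TwoFusionB.ne_one_of_inv h.1 rfl
    let y' : D := Subgroup.inclusion inf_le_left (⟨y, hy⟩ : B)
    have h := hM.card_fixed y' fun n hn => by
      rw [← map_pow] at hn ⊢
      obtain ⟨m, hm, hmn⟩ := hn
      have e := hinj hmn
      rw [e] at hm
      have h := hint _ hm (by exact pow_mem hy n)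
      rw [h, map_one]
    rw [hcardZ, orderOf_injective φ hinj,
      show orderOf y' = orderOf y from (Subgroup.orderOf_coe y').symm] at h
    rw [← h]
    congr 1
    have hset : insert (1 : G) {v | v ∈ invAt H a ∧ Commute v y} =
        (fun x : {z : invSub hZ a // φ y' z = z} => ((x : invSub hZ a) : G)) '' Set.univ := by
      ext v
      constructor
      · rintro (rfl | ⟨hv, hvy⟩)
        · exact ⟨⟨1, map_one _⟩, trivial, rfl⟩
        · exact ⟨⟨⟨v, Or.inr hv⟩, Subtype.ext (mul_inv_eq_iff_eq_mul.2 hvy.symm.eq)⟩, trivial, rfl⟩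
      · rintro ⟨⟨⟨x, hx⟩, hxy⟩, -, rfl⟩
        rcases hx with rfl | hx
        · exact Or.inl rfl
        · exact Or.inr ⟨hx, (mul_inv_eq_iff_eq_mul.1 (congrArg Subtype.val hxy)).symm⟩
    have hnot : (1 : G) ∉ {v | v ∈ invAt H a ∧ Commute v y} := fun h =>
      TwoFusionB.ne_one_of_inv h.1.1 rfl
    rw [← Set.ncard_insert_of_notMem hnot, hset,
      Set.ncard_image_of_injective _ fun x x' h => Subtype.ext (Subtype.ext h), Set.ncard_univ]

end Cfsg.Agent.Bender27
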