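import Cfsg.Agent.Bender27.Basic
import Cfsg.Agent.Bender27.Structure
import Cfsg.Agent.Bender42.Main

/-!
When no nontrivial element of `B` centralises a nontrivial element of `K`, the structure of the
two-point stabiliser is the set-up of `Bender42`.
-/

set_option autoImplicit false

namespace Cfsg.Agent.Bender27

open Subgroup MulAction Bender43 Bender43.Fixed Bender85

universe u

variable {G : Type u} [Group G] [Finite G] {H : Subgroup G}

private theorem six_mul_lt {m : ℕ} (h : 5 ≤ m) :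
    6 * m + 1 < 2 ^ m ∧ (m - 1) ^ 2 + 2 < 2 ^ m := by
  induction m, h using Nat.le_induction with
  | base => norm_num
  | succ n hn ih =>
    refine ⟨by rw [pow_succ]; omega, ?_⟩
    obtain ⟨k, rfl⟩ : ∃ k, n = k + 5 := ⟨n - 5, by omega⟩
    have h2 := ih.2
    simp only [Nat.add_sub_cancel, show k + 5 - 1 = k + 4 by omega] at h2 ⊢
    calc (k + 5) ^ 2 + 2 ≤ 2 * ((k + 4) ^ 2 + 2) := by nlinarith
      _ < 2 * 2 ^ (k + 5) := by omega
      _ = 2 ^ (k + 5 + 1) := by rw [pow_succ' 2 (k + 5)]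

/-- The size conditions on `|K| = 2^e - 1` and `|B| = m ∣ e`. -/
theorem sizes_of_dvd {m e K : ℕ} (hm : Odd m) (hme : m ∣ e) (hK : K + 1 = 2 ^ e) (hK2 : 2 ≤ K) :
    m * (m - 2) + 1 < K ∧ (6 * m < K ∨ (K = 2 * m + 1 ∧ m ≤ 3)) := by
  have he : 2 ≤ e := by
    by_contra h
    interval_cases e <;> omega
  have hpow : ∀ {i : ℕ}, i ≤ e → 2 ^ i ≤ 2 ^ e := fun h => Nat.pow_le_pow_right two_pos h
  have hme' : m ≤ e := Nat.le_of_dvd (by omega) hme
  obtain ⟨i, rfl⟩ := hm
  rcases Nat.lt_or_ge i 1 with hi | hi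
  · obtain rfl : i = 0 := by omega
    rcases Nat.lt_or_ge e 3 with h3 | h3
    · obtain rfl : e = 2 := by omega
      omega
    · have := hpow h3
      omega
  rcases Nat.lt_or_ge i 2 with hi' | hi'
  · obtain rfl : i = 1 := by omega
    obtain ⟨j, rfl⟩ := hme
    rcases Nat.lt_or_ge j 2 with hj | hj
    · obtain rfl : j = 1 := by omega
      omega
    · have h6 : 2 ^ 6 ≤ 2 ^ ((2 * 1 + 1) * j) := hpow (by omega)
      omega
  obtain ⟨h1, h2⟩ := six_mul_lt (m := 2 * i + 1) (by omega)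
  have h3 := hpow hme'
  generalize 2 ^ (2 * i + 1) = P at h1 h2 h3
  refine ⟨?_, Or.inl (by omega)⟩
  have h4 : (2 * i + 1) * (2 * i + 1 - 2) + 1 = (2 * i + 1 - 1) ^ 2 := by
    obtain ⟨k, rfl⟩ : ∃ k, i = k + 1 := ⟨i - 1, by omega⟩
    simp only [show 2 * (k + 1) + 1 - 2 = 2 * k + 1 by omega,
      show 2 * (k + 1) + 1 - 1 = 2 * (k + 1) by omega]
    ring
  omega

/-- One more than the number of involutions at a point is a power of two. -/
theorem exists_ncard_invAt (hZ : Comm H) (a : G ⧸ H) :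
    ∃ e : ℕ, (invAt H a).ncard + 1 = 2 ^ e := by
  have : Fact (Nat.Prime 2) := ⟨Nat.prime_two⟩
  have hp : IsPGroup 2 (invSub hZ a) := fun x =>
    ⟨1, Subtype.ext (by rw [Subgroup.coe_pow, pow_one, pow_two]; exact mul_self_invSub hZ x.2)⟩
  obtain ⟨e, he⟩ := hp.exists_card_eq
  refine ⟨e, ?_⟩
  rw [← he, show Nat.card (invSub hZ a) = (insert (1 : G) (invAt H a)).ncard from
    (Nat.card_coe_set_eq _).trans (congrArg Set.ncard (Set.ext fun x => Iff.rfl))]
  exact (Set.ncard_insert_of_notMem fun h => TwoFusionB.ne_one_of_inv h.1 rfl).symm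

/-- The set-up of `Bender42`. -/
theorem setup_of_free (hS : Step H) {b c : G ⧸ H} {u z : G} {K B : Subgroup G}
    (hu : Swap H u (pt H) b c) (hD : DStruct u z (pt H) b K B)
    (hfix : ∀ k ∈ stab2 (pt H) b, k ≠ 1 → u * k * u = k⁻¹ → fixSet H (zpowers k) = {pt H, b})
    (hfree : ∀ y ∈ B, y ≠ 1 → ∀ k ∈ K, Commute y k → k = 1) :
    Bender42.Setup H K B u z := by
  have hne : pt H ≠ b := hu.ne
  have hui := TwoFusionB.inv_eq_of_inv hu.inv
  have hub : u • b = pt H := TwoFusionB.smul_swap hu.inv hu.swap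
  have hodd : Odd (Nat.card (stab2 (pt H) b : Subgroup G)) := odd_stab2 hS.ctx.se hne
  have hle : stab2 (pt H) b ≤ H := fun d hd => TwoFusionB.smul_one_eq_iff.1 (mem_inf.1 hd).1
  have hone : ∀ d ∈ stab2 (pt H) b, d * d = 1 → d = 1 := by
    intro d hd h
    obtain ⟨i, hi⟩ := hodd.of_dvd_nat (Subgroup.orderOf_dvd_natCard _ hd)
    have h1 := pow_orderOf_eq_one d
    rwa [hi, pow_succ, pow_mul, pow_two, h, one_pow, one_mul] at h1
  have hKcomm : ∀ x ∈ K, ∀ y ∈ K, x * y = y * x := fun x hx y hy => by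
    have := hD.K_cyclic
    have : IsMulCommutative K := IsCyclic.isMulCommutative
    exact congrArg Subtype.val (mul_comm' (⟨x, hx⟩ : K) ⟨y, hy⟩)
  have hpair : ∀ k ∈ K, k ≠ 1 → ∀ p : G ⧸ H, k • p = p → p = pt H ∨ p = b := by
    intro k hk hk1 p hp
    have h : p ∈ fixSet H (zpowers k) := fun t ht =>
      mem_stabilizer_iff.1 ((zpowers_le.2 (mem_stabilizer_iff.2 hp)) ht)
    rwa [hfix k (hD.K_le hk) hk1 (hD.inverts k hk)] at h
  refine
    { se := hS.ctx.se
      trans := fun g₁ g₂ => BenderCons37.transitive_of_core hS.ctx.se hS.ctx.core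
      comm := hS.comm
      u_ord := hu.inv
      u_out := fun h => hne ((TwoFusionB.smul_one_eq_iff.2 h).symm.trans hu.swap)
      z_mem := TwoFusionB.smul_one_eq_iff.1 hD.z_mem.2
      z_ord := hD.z_mem.1
      K_le := hD.K_le.trans hle
      B_le := hD.B_le.trans hle
      stab := ?_
      cc := ⟨hKcomm, ?_⟩
      K_ne := ?_
      reg := fun v hv hv2 => hD.reg z hD.z_mem v ⟨hv2, TwoFusionB.smul_one_eq_iff.2 hv⟩
      inverts := fun k hk => by rw [hui]; exact hD.inverts k hk
      B_u := hD.B_u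
      B_z := hD.B_z
      B_norm := fun y hy => hD.B_norm y (hD.B_le hy)
      two_fix := ?_ }
  · intro d hd hud
    have h1 := TwoFusionB.smul_one_eq_iff.2 hud
    rw [hui, mul_smul, mul_smul] at h1
    change u • d • u • pt H = pt H at h1
    rw [hu.swap] at h1
    refine hD.prod d (mem_inf.2 ⟨mem_stabilizer_iff.2 (TwoFusionB.smul_one_eq_iff.2 hd), ?_⟩)
    rw [mem_stabilizer_iff, ← hu.swap]
    calc d • u • pt H = u • (u • d • u • pt H) := by
          rw [smul_smul u u, TwoFusionB.sq_eq_one_of_inv hu.inv, one_smul]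
      _ = u • pt H := by rw [hu.swap, h1, hu.swap]
  · intro f hf hf1 x hx
    have hxf : x * f = f * x := mem_centralizer_singleton_iff.1 hx
    have hfD := hD.K_le hf
    have hfa : f • pt H = pt H := (mem_inf.1 hfD).1
    have hfb : f • b = b := (mem_inf.1 hfD).2
    have hmove : ∀ p : G ⧸ H, f • p = p → f • x • p = x • p := fun p hp => by
      rw [← mul_smul, ← hxf, mul_smul, hp]
    rcases hpair f hf hf1 _ (hmove _ hfa) with ha | ha
    · have hb' : x • b = b := by
        rcases hpair f hf hf1 _ (hmove _ hfb) with h | h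
        · exact absurd (MulAction.injective x (h.trans ha.symm)).symm hne
        · exact h
      obtain ⟨k, hk, y, hy, rfl⟩ := hD.prod x (mem_inf.2 ⟨ha, hb'⟩)
      have hyf : Commute y f := mul_left_cancel (a := k) (by
        rw [← mul_assoc, hxf, ← mul_assoc, ← mul_assoc, hKcomm f hf k hk])
      by_cases hy1 : y = 1
      · rwa [hy1, mul_one]
      · exact absurd (hfree y hy hy1 f hf hyf) hf1
    · have hb' : x • b = pt H := by
        rcases hpair f hf hf1 _ (hmove _ hfb) with h | h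
        · exact h
        · exact absurd (MulAction.injective x (h.trans ha.symm)).symm hne
      have hdm : x * u ∈ stab2 (pt H) b := mem_inf.2 ⟨by rw [mem_stabilizer_iff, mul_smul, hu.swap, hb'],
        by rw [mem_stabilizer_iff, mul_smul, hub, ha]⟩
      obtain ⟨k, hk, y, hy, hky⟩ := hD.prod _ hdm
      have h1 : x * u * f * (x * u)⁻¹ = f⁻¹ := by
        calc x * u * f * (x * u)⁻¹ = x * (u * f * u⁻¹) * x⁻¹ := by group
          _ = x * f⁻¹ * x⁻¹ := by rw [hui, hD.inverts f hf]
          _ = f⁻¹ := mul_inv_eq_of_eq_mul (Commute.inv_right hxf).eq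
      have hyK : y * f * y⁻¹ ∈ K := hD.B_norm y (hD.B_le hy) f hf
      have h2 : y * f * y⁻¹ = f⁻¹ := by
        rw [← h1, hky]
        calc y * f * y⁻¹ = k * (y * f * y⁻¹) * k⁻¹ :=
              (mul_inv_eq_of_eq_mul (hKcomm k hk _ hyK)).symm
          _ = _ := by group
      have h2' : y * f⁻¹ * y⁻¹ = f := by
        rw [← inv_inv (y * f⁻¹ * y⁻¹), show (y * f⁻¹ * y⁻¹)⁻¹ = y * f * y⁻¹ by group, h2, inv_inv]
      have h3 : y * y * f = f * (y * y) := by
        calc y * y * f = y * (y * f * y⁻¹) * y := by group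
          _ = (y * f⁻¹ * y⁻¹) * (y * y) := by rw [h2]; group
          _ = f * (y * y) := by rw [h2']
      have hy1 : y = 1 := by
        by_contra hy1
        exact hf1 (hfree (y * y) (mul_mem hy hy) (fun h => hy1 (hone y (hD.B_le hy) h)) f hf h3)
      refine absurd (hone f hfD ?_) hf1
      rw [hy1, one_mul, inv_one, mul_one] at h2
      nth_rw 2 [h2]
      exact mul_inv_cancel f
  · intro hK
    obtain ⟨x, hxH, y, hyH, hx, hy, hxy, -⟩ := BenderCons37.exists_four_mem hS.ctx.se hS.ctx.rank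
    obtain ⟨k, hk, hkx⟩ := hD.reg x ⟨hx, TwoFusionB.smul_one_eq_iff.2 hxH⟩ y
      ⟨hy, TwoFusionB.smul_one_eq_iff.2 hyH⟩
    rw [hK, mem_bot] at hk
    exact hxy (by simpa [hk] using hkx)
  · intro k hk hk1 g hg
    have hfixg : k • (QuotientGroup.mk g : G ⧸ H) = QuotientGroup.mk g :=
      TwoFusionB.smul_mk_eq_iff.2 hg
    rcases hpair k hk hk1 _ hfixg with h | h
    · exact Or.inl (by simpa using QuotientGroup.eq.1 h.symm)
    · refine Or.inr ?_
      rw [← hu.swap, show u • pt H = QuotientGroup.mk u by simp [pt, Quotient.smul_mk]] at h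
      have := QuotientGroup.eq.1 h.symm
      rwa [hui] at this

/-- The case in which `B` acts freely on `K`. -/
theorem hasSplit_of_free (hS : Step H) {b c : G ⧸ H} {u z : G} {K B : Subgroup G}
    (hu : Swap H u (pt H) b c) (hD : DStruct u z (pt H) b K B)
    (hfree : ∀ y ∈ B, y ≠ 1 → ∀ k ∈ K, Commute y k → k = 1) : HasSplit H := by
  have hset := setup_of_free hS hu hD
    (fun k hk hk1 hku => fix_pair_of_inverted hS hu hk hk1 hku) hfree
  have hB : Odd (Nat.card B) :=
    (odd_stab2 hS.ctx.se hu.ne).of_dvd_nat (Subgroup.card_dvd_of_le hD.B_le)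
  obtain ⟨e, he⟩ := exists_ncard_invAt hS.comm (pt H)
  have hK2 : 2 ≤ Nat.card K := by
    have h1 : Nat.card K ≠ 1 := fun h => hset.K_ne (K.eq_bot_of_card_eq h)
    have h0 : 0 < Nat.card K := Nat.card_pos
    omega
  obtain ⟨h1, h2⟩ := sizes_of_dvd hB (hD.card_B e he) (by rw [hD.card_K]; exact he) hK2
  exact Bender42.exists_regularNormal hset hB h1 h2

end Cfsg.Agent.Bender27
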