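import Cfsg.Agent.Bender27.Defs
import Cfsg.Agent.Bender85.Tee
import Cfsg.Agent.Bender85.Commute
import Cfsg.Agent.Bender36.Inexact
import Cfsg.Agent.BenderCons37.Local2

/-!
Commuting involutions: no real element fixes a centre, every prime is centred, inverted elements
fix just two points, and the normaliser data of a group centralised by two involutions at a point.
-/

set_option autoImplicit false
set_option linter.unusedSectionVars false

namespace Cfsg.Agent.Bender27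

open Subgroup MulAction Bender43 Bender43.Fixed Bender85

universe u

variable {G : Type u} [Group G] [Finite G] {H : Subgroup G}

theorem invAt_nonempty (hC : Ctx H) (a : G ⧸ H) : ∃ v, v ∈ invAt H a := by
  obtain ⟨g, rfl⟩ := QuotientGroup.mk_surjective a
  obtain ⟨x, hxH, hx⟩ := TwoFusionB.exists_inv_mem hC.se
  exact ⟨g * x * g⁻¹, by rw [TwoFusionB.orderOf_conj_eq, hx],
    TwoFusionB.smul_mk_eq_iff.2 (by simpa [mul_assoc] using hxH)⟩

/-- Any two points are exchanged by an involution. -/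
theorem exists_swap (hC : Ctx H) {a b : G ⧸ H} (hab : a ≠ b) : ∃ u c, Swap H u a b c := by
  obtain ⟨x, hx, hxa⟩ := invAt_nonempty hC a
  obtain ⟨y, hy, hyb⟩ := invAt_nonempty hC b
  obtain ⟨w, hw, hwab, -⟩ := TwoFusionB.exists_swap_conj hC.se hx hy hxa hyb hab
  obtain ⟨c, hc⟩ := TwoFusionB.exists_fix hC.se hw
  exact ⟨w, c, hw, hab, hwab, hc⟩

/-- An element commuting with an involution fixes its point. -/
theorem smul_eq_of_commute (hC : Ctx H) {v x : G} {c : G ⧸ H} (hv : v ∈ invAt H c)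
    (h : Commute v x) : x • c = c :=
  TwoFusionB.fix_unique hC.se hv.1 (by rw [smul_smul, h.eq, ← smul_smul, hv.2]) hv.2

variable (hS : Step H)
include hS

/-- An element inverted by a swapper and fixing its centre is trivial. -/
theorem noReal : NoRealFixed H := by
  intro v x a b c hv hxa hxb hxc hinv
  have hvv := TwoFusionB.sq_eq_one_of_inv hv.inv
  have hy : x * v * x⁻¹ ∈ invAt H c := ⟨by rw [TwoFusionB.orderOf_conj_eq, hv.inv],
    by rw [mul_smul, mul_smul, inv_smul_eq_iff.2 hxc.symm, hv.centre, hxc]⟩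
  have hc : Commute v (x * v * x⁻¹) := BenderCons37.commute_of_invAt hS.comm ⟨hv.inv, hv.centre⟩ hy
  have h1 : v * (x * v * x⁻¹) = x⁻¹ * x⁻¹ := by
    rw [show v * (x * v * x⁻¹) = v * x * v * x⁻¹ by group, hinv]
  have h2 : (x⁻¹ * x⁻¹) * (x⁻¹ * x⁻¹) = 1 := by
    rw [← h1]
    calc v * (x * v * x⁻¹) * (v * (x * v * x⁻¹))
        = v * ((x * v * x⁻¹) * v) * (x * v * x⁻¹) := by group
      _ = v * (v * (x * v * x⁻¹)) * (x * v * x⁻¹) := by rw [hc.eq]
      _ = (v * v) * (x * (v * v) * x⁻¹) := by group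
      _ = 1 := by rw [hvv]; group
  have h4 : x ^ 4 = 1 := by
    rw [← inv_inj, inv_one, ← h2, ← inv_pow]; group
  have hodd : Odd (orderOf x) :=
    RankOne.odd_orderOf_of_mem (odd_stab2 hS.ctx.se hv.ne) (mem_inf.2 ⟨hxa, hxb⟩ : x ∈ stab2 a b)
  exact orderOf_eq_one_iff.1 (Nat.Coprime.eq_one_of_dvd
    ((Nat.coprime_two_right.2 hodd).pow_right 2) (orderOf_dvd_of_pow_eq_one h4))

theorem goodAt (r : ℕ) : GoodAt H r := Bender36.goodAt_of_noRealFixed hS.ctx (noReal hS) r

/-- Every prime is centred. -/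
theorem centred {r : ℕ} (hr : r.Prime) : CentredAt H r := by
  haveI := Fact.mk hr
  have hC := hS.ctx
  intro X hX h3 c hc
  obtain ⟨p, hp, hpc⟩ := exists_ne_of_threeFix h3 c
  have hXD : X ≤ stab2 c p := fun x hx =>
    mem_inf.2 ⟨mem_stabilizer_iff.2 (hc x hx), mem_stabilizer_iff.2 (hp x hx)⟩
  have hodd := odd_stab2 hC.se (Ne.symm hpc)
  rcases eq_or_ne X ⊥ with rfl | hX1
  · obtain ⟨v, hv⟩ := invAt_nonempty hC c
    exact ⟨v, hv.1, hv.2, mem_centralizer_iff.2 fun x hx => by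
      rw [show x = 1 from mem_bot.1 hx, one_mul, mul_one]⟩
  have hr2 : r ≠ 2 := by
    rintro rfl
    obtain ⟨n, hn⟩ := IsPGroup.iff_card.1 hX
    have h := hodd.of_dvd_nat (card_dvd_of_le hXD)
    rcases Nat.eq_zero_or_pos n with rfl | hn0
    · exact hX1 (card_eq_one.1 hn)
    · rw [hn, Nat.odd_pow_iff hn0.ne'] at h
      exact absurd h (by decide)
  by_cases hE : ExactPrime H r
  · exact centredAt_of_goodAt hC hr hr2 hE (goodAt hS r) X hX h3 c hc
  obtain ⟨u, m, hu⟩ := exists_swap hC (Ne.symm hpc)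
  obtain ⟨T, -, t, ht, htT⟩ := Bender36.exists_centralized_sylow hC (noReal hS) hr hE hu
  obtain ⟨S, hS'⟩ := (hX.comap_subtype (K := stab2 c p)).exists_le_sylow
  obtain ⟨d, rfl⟩ := MulAction.exists_smul_eq (stab2 c p : Subgroup G) T S
  refine ⟨d * t * (d : G)⁻¹, by rw [TwoFusionB.orderOf_conj_eq, ht.1], ?_,
    mem_centralizer_iff.2 fun x hx => ?_⟩
  · rw [mul_smul, mul_smul,
      inv_smul_eq_iff.2 (mem_stabilizer_iff.1 (mem_inf.1 d.2).1).symm, ht.2,
      mem_stabilizer_iff.1 (mem_inf.1 d.2).1]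
  · have h := hS' (mem_subgroupOf.2 hx : (⟨x, hXD hx⟩ : (stab2 c p : Subgroup G)) ∈ _)
    rw [Sylow.coe_subgroup_smul, Subgroup.mem_pointwise_smul_iff_inv_smul_mem] at h
    have h' := mem_centralizer_iff.1 htT _ ⟨_, h, rfl⟩
    simp only [Subgroup.coe_subtype, MulAut.smul_def, MulAut.conj_inv_apply, Subgroup.coe_mul,
      InvMemClass.coe_inv] at h'
    calc x * (d * t * (d : G)⁻¹) = d * ((d : G)⁻¹ * x * d * t) * (d : G)⁻¹ := by group
      _ = d * (t * ((d : G)⁻¹ * x * d)) * (d : G)⁻¹ := by rw [h']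
      _ = d * t * (d : G)⁻¹ * x := by group

/-- An element of a two-point stabiliser inverted by the swapper fixes just the two points. -/
theorem fix_pair_of_inverted {u : G} {a b c : G ⧸ H} (hu : Swap H u a b c) {x : G}
    (hx : x ∈ stab2 a b) (hx1 : x ≠ 1) (hxu : u * x * u = x⁻¹) :
    fixSet H (zpowers x) = {a, b} := by
  haveI := hS.ctx.fin
  have huu := TwoFusionB.sq_eq_one_of_inv hu.inv
  have hn : orderOf x ≠ 1 := fun h => hx1 (orderOf_eq_one_iff.1 h)
  set r := (orderOf x).minFac with hr'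
  have hr : r.Prime := Nat.minFac_prime hn
  obtain ⟨m, hm⟩ := Nat.minFac_dvd (orderOf x)
  set y := x ^ m with hy
  have hm0 : m ≠ 0 := by
    rintro rfl
    exact (orderOf_pos x).ne' (by rw [hm, mul_zero])
  have hyo : orderOf y = r := by
    rw [hy, orderOf_pow' x hm0, hm, Nat.gcd_eq_right (dvd_mul_left m r),
      Nat.mul_div_cancel _ (Nat.pos_of_ne_zero hm0)]
  have hy1 : y ≠ 1 := fun h => hr.ne_one (by rw [← hyo, h, orderOf_one])
  have hyD : y ∈ stab2 a b := pow_mem hx m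
  have hyu : u * y * u = y⁻¹ := by
    have h := conj_pow (a := u) (b := x) (i := m)
    rw [TwoFusionB.inv_eq_of_inv hu.inv, hxu, inv_pow] at h
    exact h.symm
  have hab : ∀ w : G, w ∈ stab2 a b → a ∈ fixSet H (zpowers w) ∧ b ∈ fixSet H (zpowers w) :=
    fun w hw => ⟨fun t ht => mem_stabilizer_iff.1 (mem_inf.1 ((zpowers_le.2 hw) ht)).1,
      fun t ht => mem_stabilizer_iff.1 (mem_inf.1 ((zpowers_le.2 hw) ht)).2⟩
  have hno : ¬ ThreeFix H (zpowers y) := by
    intro h3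
    obtain ⟨v, hv, hva, hvC⟩ := centred hS hr (zpowers y)
      (IsPGroup.of_card (n := 1) (by rw [Nat.card_zpowers, hyo, pow_one])) h3 a (hab y hyD).1
    obtain ⟨c', hcv, hcu, hcs⟩ := BenderCons37.exists_common_involution hu.inv hv
      (hyo ▸ hr.odd_of_ne_two fun h2 => by
        have h := RankOne.odd_orderOf_of_mem (odd_stab2 hS.ctx.se hu.ne) hyD
        rw [hyo, h2] at h
        exact absurd h (by decide))
      hy1 (by rw [TwoFusionB.inv_eq_of_inv hu.inv]; exact hyu)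
      (mem_centralizer_iff.1 hvC y (mem_zpowers y)).symm
    obtain ⟨q, hq⟩ := TwoFusionB.exists_fix hS.ctx.se hcv
    have hqc : q = c := TwoFusionB.fix_unique hS.ctx.se hu.inv
      (smul_eq_of_commute hS.ctx ⟨hcv, hq⟩ hcu) hu.centre
    have hqa : q = a := TwoFusionB.fix_unique hS.ctx.se hv
      (smul_eq_of_commute hS.ctx ⟨hcv, hq⟩ hcs) hva
    exact hu.ne (by rw [← hu.swap, ← hqa, hqc, hu.centre])
  have h2 := fixSet_pair_of_not_threeFix (hab y hyD).1 (hab y hyD).2 hu.ne hno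
  refine Set.Subset.antisymm ?_ ?_
  · rw [← h2]
    exact fixSet_anti (zpowers_le.2 (pow_mem (mem_zpowers x) m))
  · rintro w (rfl | rfl)
    · exact (hab x hx).1
    · exact (hab x hx).2

theorem exists_involutions_ne_top {a : G ⧸ H} {X : Subgroup G} (hX1 : X ≠ ⊥)
    (hodd : Odd (Nat.card X)) (h2 : TwoAt H a X) :
    centralizer (X : Set G) ≠ ⊤ ∧ BenderCons37.RankTwo (centralizer (X : Set G)) := by
  obtain ⟨z, hz, w, hw, hne, hzX, hwX⟩ := h2
  refine ⟨fun h => ne_top_normalizer hS.ctx hX1 hodd (top_unique (h ▸ centralizer_le_normalizer _)),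
    ⟨z, hzX⟩, ⟨w, hwX⟩, fun e => TwoFusionB.ne_one_of_inv hz.1 (congrArg Subtype.val e),
    fun e => TwoFusionB.ne_one_of_inv hw.1 (congrArg Subtype.val e),
    fun e => hne (congrArg Subtype.val e), Subtype.ext (TwoFusionB.sq_eq_one_of_inv hz.1),
    Subtype.ext (TwoFusionB.sq_eq_one_of_inv hw.1),
    Subtype.ext (BenderCons37.commute_of_invAt hS.comm hz hw).eq⟩

/-- An `r`-group centralised by two involutions at `a` has a 2-group in its centraliser fixing `a`
and transitive on the other fixed points. -/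
theorem exists_twoGroup {a b : G ⧸ H} (hab : a ≠ b) {X : Subgroup G} (hX1 : X ≠ ⊥) {r : ℕ}
    (hr : r.Prime) (hX : IsPGroup r X) (hXD : X ≤ stab2 a b) (h2 : TwoAt H a X) :
    ∃ T : Subgroup G, IsPGroup 2 T ∧ T ≤ centralizer (X : Set G) ⊓ stabilizer G a ∧
      (∀ t ∈ T, ∀ i ∈ invAt H a, i ∈ centralizer (X : Set G) → Commute t i) ∧
      (∀ q ∈ fixSet H X, q ≠ a → ∃ t ∈ T, t • b = q) := by
  have hC := hS.ctx
  have hbX : b ∈ fixSet H X := fun t ht => mem_stabilizer_iff.1 (mem_inf.1 (hXD ht)).2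
  have haX : a ∈ fixSet H X := fun t ht => mem_stabilizer_iff.1 (mem_inf.1 (hXD ht)).1
  obtain ⟨hN, hR⟩ := exists_involutions_ne_top hS hX1
    ((odd_stab2 hC.se hab).of_dvd_nat (card_dvd_of_le hXD)) h2
  obtain ⟨z, hz, w, hw, hne, hzX, hwX⟩ := h2
  have hzb : z • b ≠ b := fun e => hab (TwoFusionB.fix_unique hC.se hz.1 hz.2 e)
  have h3 : ThreeFix H X := ⟨a, haX, b, hbX, z • b,
    smul_mem_fixSet (centralizer_le_normalizer _ hzX) hbX, hab,
    fun e => hab (by rw [← smul_left_cancel_iff z, hz.2, ← e]), fun e => hzb e.symm⟩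
  obtain ⟨v, hv, hvb, hvX⟩ := centred hS hr X hX h3 b hbX
  obtain ⟨T, hT2, hTle, hTc, htr⟩ := BenderCons37.exists_twoGroup_trans hC hS.below hS.comm hN
    hzX hz.1 hvX hv hz.2 hvb hab hR hzX hz.1 hz.2
  refine ⟨T, hT2, hTle, fun t ht i hi hiX => hTc i hi hiX t ht, fun q hq hqa => ?_⟩
  obtain ⟨v', hv', hvq, hvX'⟩ := centred hS hr X hX h3 q hq
  exact htr v v' hvX hv hvX' hv' b q hvb hvq (Ne.symm hab) hqa

end Cfsg.Agent.Bender27
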