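import Cfsg.Agent.Bender85.Comm.Final
import Cfsg.Agent.Bender85.BadTop

/-!
The involutions at a point commute, in the standing context.
-/

set_option autoImplicit false

namespace Cfsg.Agent.Bender27

open Bender43 Bender43.Fixed Bender85

universe u

variable {G : Type u} [Group G] [Finite G] {H : Subgroup G}

/-- The involutions of `H` commute. -/
theorem comm (hC : Ctx H) : Comm H :=
  comm_of_badTop hC fun _ hr hr2 hE hG _ _ hab T => by
    obtain ⟨hR, ⟨v, hv, hva⟩, w, hw, hwb⟩ := bad_top hC hr hr2 hE hG hab T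
    exact ⟨hR, ⟨v, hv, hva.1, hva.2⟩, w, hw, hwb.1, hwb.2⟩

end Cfsg.Agent.Bender27
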