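import Cfsg.Agent.Bender27.Basic
import Cfsg.Agent.BenderCons37.Glue

/-!
Transfer in the point stabiliser: a good prime controls the fusion in every normal subgroup
containing the 2-elements, and control for all primes gives the regular normal subgroup.
-/

set_option autoImplicit false
set_option linter.unusedSectionVars false

namespace Cfsg.Agent.Bender27

open Subgroup MulAction Bender43 Bender43.Fixed Bender85

universe u

variable {G : Type u} [Group G] [Finite G] {H : Subgroup G}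

theorem smul_pt {x : G} : x • pt H = pt H ↔ x ∈ H := TwoFusionB.smul_one_eq_iff

theorem stabilizer_mk (g : G) :
    stabilizer G (QuotientGroup.mk g : G ⧸ H) = H.map (MulAut.conj g).toMonoidHom := by
  ext x
  rw [mem_stabilizer_iff, TwoFusionB.smul_mk_eq_iff]
  exact ⟨fun h => ⟨g⁻¹ * x * g, h, by simp [mul_assoc]⟩,
    by rintro ⟨y, hy, rfl⟩; simpa [mul_assoc] using hy⟩

theorem mem_stab2_pt {b : G ⧸ H} (x : H) :
    (x : G) ∈ stab2 (pt H) b ↔ x ∈ (stabilizer G b).subgroupOf H := by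
  simp [mem_inf, mem_subgroupOf, mem_stabilizer_iff, smul_pt]

theorem odd_card_stab {hC : Ctx H} {b : G ⧸ H} (hb : pt H ≠ b) :
    Odd (Nat.card ((stabilizer G b).subgroupOf H)) := by
  refine (odd_stab2 hC.se hb).of_dvd_nat ?_
  rw [← Subgroup.card_map_of_injective H.subtype_injective]
  refine card_dvd_of_le ?_
  rintro _ ⟨x, hx, rfl⟩
  exact (mem_stab2_pt x).2 hx

variable (hS : Step H)
include hS

/-- 2-elements fixing `a` lie in `M`. -/
theorem mem_of_two {M : Subgroup H} (hT : ∀ t : H, (∃ n, orderOf t = 2 ^ n) → t ∈ M)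
    {T : Subgroup G} (hT2 : IsPGroup 2 T) (hTs : T ≤ stabilizer G (pt H)) {t : G} (ht : t ∈ T) :
    ∃ htH : t ∈ H, (⟨t, htH⟩ : H) ∈ M := by
  refine ⟨smul_pt.1 (hTs ht), hT _ ?_⟩
  haveI : Fact (Nat.Prime 2) := ⟨Nat.prime_two⟩
  obtain ⟨n, hn⟩ := IsPGroup.iff_orderOf.1 hT2 ⟨t, ht⟩
  exact ⟨n, by rw [Subgroup.orderOf_mk, ← hn, Subgroup.orderOf_mk]⟩

/-- A good Sylow subgroup of the two-point part is a Sylow subgroup of `M`. -/
theorem not_dvd_of_good {b : G ⧸ H} (hb : pt H ≠ b) {M : Subgroup H} [M.Normal]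
    (hT : ∀ t : H, (∃ n, orderOf t = 2 ^ n) → t ∈ M) {r : ℕ} (hr : r.Prime)
    (hrE : r ∣ Nat.card ↥(M ⊓ (stabilizer G b).subgroupOf H)) {P : Subgroup H}
    (hPE : P ≤ M ⊓ (stabilizer G b).subgroupOf H) (hPr : IsPGroup r P)
    (hPidx : ¬ r ∣ P.relIndex (M ⊓ (stabilizer G b).subgroupOf H))
    (hg : fixSet H (P.map H.subtype) = {pt H, b} ∨ TwoAt H (pt H) (P.map H.subtype)) :
    ¬ r ∣ P.relIndex M := by
  classical
  haveI := Fact.mk hr
  set E := M ⊓ (stabilizer G b).subgroupOf H with hE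
  have hED : ∀ x : H, x ∈ E → (x : G) ∈ stab2 (pt H) b := fun x hx =>
    (mem_stab2_pt x).2 (mem_inf.1 hx).2
  have hne : ∀ {v : H}, (v : G) • b ≠ pt H := fun {v} e =>
    hb (smul_left_cancel (v : G) (e.trans (smul_pt.2 v.2).symm)).symm
  intro hdvd
  set N : Subgroup H := M ⊓ normalizer (P : Set H) with hN
  have hPN : P ≤ N := le_inf (hPE.trans inf_le_left) le_normalizer
  have key : ¬ r ∣ P.relIndex N := by
    rw [← Subgroup.relIndex_mul_relIndex P (E ⊓ N) N (le_inf hPE hPN) inf_le_right,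
      hr.dvd_mul, not_or]
    refine ⟨fun h => hPidx (h.trans ?_), ?_⟩
    · exact ⟨(E ⊓ N).relIndex E,
        (Subgroup.relIndex_mul_relIndex P (E ⊓ N) E (le_inf hPE hPN) inf_le_left).symm⟩
    have hst : (E ⊓ N).subgroupOf N = stabilizer N b := by
      ext v
      exact ⟨fun h => mem_stabilizer_iff.2
          (mem_subgroupOf.1 (mem_inf.1 (mem_inf.1 (mem_subgroupOf.1 h)).1).2),
        fun h => mem_subgroupOf.2 (mem_inf.2
          ⟨mem_inf.2 ⟨(mem_inf.1 v.2).1, mem_subgroupOf.2 (mem_stabilizer_iff.1 h)⟩, v.2⟩)⟩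
    rw [Subgroup.relIndex, hst, MulAction.index_stabilizer]
    set X : Subgroup G := P.map H.subtype with hX
    have hXD : X ≤ stab2 (pt H) b := by
      rintro _ ⟨x, hx, rfl⟩
      exact hED x (hPE hx)
    have horb : ∀ v : N, ((v : H) : G) • b ∈ fixSet H X := by
      rintro v _ ⟨x, hx, rfl⟩
      have hx' : (v : H)⁻¹ * x * (v : H) ∈ P := by
        have := (mem_normalizer_iff.1 (inv_mem (mem_inf.1 v.2).2) x).1 hx
        simpa using this
      have h := mem_stabilizer_iff.1 (mem_inf.1 (hXD (mem_map_of_mem H.subtype hx'))).2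
      simp only [Subgroup.coe_subtype, Subgroup.coe_mul, InvMemClass.coe_inv, mul_smul,
        inv_smul_eq_iff] at h
      exact h
    have hP1 : P ≠ ⊥ := fun h => hPidx (by rw [h, Subgroup.relIndex_bot_left]; exact hrE)
    rcases hg with hfix | h2
    · have : orbit N b = {b} := by
        refine Set.eq_singleton_iff_unique_mem.2 ⟨mem_orbit_self b, ?_⟩
        rintro _ ⟨v, rfl⟩
        have h := horb v
        rw [hfix] at h
        exact h.resolve_left hne
      rw [this, Set.ncard_singleton]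
      exact hr.not_dvd_one
    · obtain ⟨T, hT2, hTle, -, htr⟩ := exists_twoGroup hS hb
        ((Subgroup.map_eq_bot_iff_of_injective _ H.subtype_injective).not.2 hP1) hr (hPr.map _) hXD h2
      have hsub : orbit N b ⊆ orbit T b := by
        rintro _ ⟨v, rfl⟩
        obtain ⟨t, ht, htv⟩ := htr _ (horb v) hne
        exact ⟨⟨t, ht⟩, htv⟩
      have hsup : orbit T b ⊆ orbit N b := by
        rintro _ ⟨t, rfl⟩
        obtain ⟨htH, htM⟩ := mem_of_two hS hT hT2 (hTle.trans inf_le_right) t.2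
        refine ⟨⟨⟨t, htH⟩, mem_inf.2 ⟨htM, ?_⟩⟩, rfl⟩
        refine centralizer_le_normalizer _ (mem_centralizer_iff.2 fun x hx => Subtype.ext ?_)
        exact mem_centralizer_iff.1 (mem_inf.1 (hTle t.2)).1 _ (mem_map_of_mem H.subtype hx)
      rw [hsub.antisymm hsup, ← MulAction.index_stabilizer]
      intro h
      obtain ⟨n, hn⟩ := IsPGroup.iff_card.1 hT2
      have h2' := (hr.dvd_of_dvd_pow (hn ▸ h.trans (index_dvd_card _)))
      have hr2 : r ≠ 2 := by
        rintro rfl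
        have hodd := (odd_card_stab (hC := hS.ctx) hb).of_dvd_nat
          (card_dvd_of_le (inf_le_right : E ≤ _))
        exact Nat.not_even_iff_odd.2 hodd (even_iff_two_dvd.2 hrE)
      exact hr2 ((Nat.prime_dvd_prime_iff_eq hr Nat.prime_two).1 h2')
  -- a larger `r`-subgroup of `M` would meet `N` in a larger one
  obtain ⟨S', hS'⟩ := (hPr.comap_subtype (K := M)).exists_le_sylow
  set P' : Subgroup H := (S' : Subgroup M).map M.subtype with hP'
  have hPP' : P ≤ P' := fun x hx =>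
    ⟨⟨x, (mem_inf.1 (hPE hx)).1⟩, hS' (mem_subgroupOf.2 hx), rfl⟩
  have hlt : P < P' := lt_of_le_of_ne hPP' fun e => by
    rw [e, hP', Subgroup.relIndex, Subgroup.subgroupOf,
      Subgroup.comap_map_eq_self_of_injective M.subtype_injective] at hdvd
    exact S'.not_dvd_index hdvd
  obtain ⟨w, hw, hwN, hwP⟩ := exists_normalizer_gt (S'.2.map _) hlt
  have hKN : P' ⊓ normalizer (P : Set H) ≤ N := inf_le_inf_right _ (map_subtype_le _)
  have hlt' : P < P' ⊓ normalizer (P : Set H) :=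
    lt_of_le_of_ne (le_inf hPP' le_normalizer) fun e => hwP (e.symm ▸ mem_inf.2 ⟨hw, hwN⟩)
  refine key ((?_ : r ∣ P.relIndex (P' ⊓ normalizer (P : Set H))).trans
    ⟨(P' ⊓ normalizer (P : Set H)).relIndex N,
      (Subgroup.relIndex_mul_relIndex P _ N hlt'.le hKN).symm⟩)
  obtain ⟨n, hn⟩ := IsPGroup.iff_card.1
    ((S'.2.map M.subtype).to_le (inf_le_left : P' ⊓ normalizer (P : Set H) ≤ P'))
  obtain ⟨i, -, hi⟩ := (Nat.dvd_prime_pow hr).1 (hn ▸ Subgroup.relIndex_dvd_card P _)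
  rw [hi]
  refine dvd_pow_self r fun h0 => hlt'.not_ge ?_
  rw [← Subgroup.relIndex_eq_one, hi, h0, pow_zero]

/-- The fusion of an element generating a good subgroup is controlled. -/
theorem fusion_of_good {b : G ⧸ H} (hb : pt H ≠ b) {M : Subgroup H} [M.Normal]
    (hT : ∀ t : H, (∃ n, orderOf t = 2 ^ n) → t ∈ M) {r : ℕ} (hr : r.Prime) {P : Subgroup H}
    (hPE : P ≤ M ⊓ (stabilizer G b).subgroupOf H) (hPr : IsPGroup r P) {x u : H} (hx : x ∈ P)
    (hu : u ∈ M) (hy : u * x * u⁻¹ ∈ P)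
    (hg : x ≠ 1 → fixSet H (zpowers (x : G)) = {pt H, b} ∨ TwoAt H (pt H) (zpowers (x : G))) :
    ∃ d ∈ M ⊓ (stabilizer G b).subgroupOf H, u * x * u⁻¹ = d * x * d⁻¹ := by
  classical
  haveI := Fact.mk hr
  set E := M ⊓ (stabilizer G b).subgroupOf H with hE
  have hED : ∀ x : H, x ∈ E → (x : G) ∈ stab2 (pt H) b := fun x hx =>
    (mem_stab2_pt x).2 (mem_inf.1 hx).2
  have hne : ∀ {v : H}, (v : G) • b ≠ pt H := fun {v} e =>
    hb (smul_left_cancel (v : G) (e.trans (smul_pt.2 v.2).symm)).symm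
  rcases eq_or_ne x 1 with rfl | hx1
  · exact ⟨1, one_mem _, by simp⟩
  have hyb : (u * x * u⁻¹) • b = b :=
    mem_stabilizer_iff.1 (mem_inf.1 (hED _ (hPE hy))).2
  suffices htrans : ∀ v ∈ M, x • v • b = v • b → ∃ c ∈ M, c * x = x * c ∧ c • b = v • b by
    obtain ⟨d, hd, hd'⟩ :=
      BenderCons37.control_of_centralizer_transitive (M := M) (b := b) (x := x) hu hyb htrans
    exact ⟨d, mem_inf.2 ⟨(mem_inf.1 hd).1,
      mem_subgroupOf.2 (mem_stabilizer_iff.1 (mem_inf.1 hd).2)⟩, hd'⟩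
  intro v hv hxv
  set X : Subgroup G := zpowers (x : G) with hX
  have hXr : IsPGroup r X := by
    have h := (hPr.to_le (zpowers_le.2 hx)).map H.subtype
    rwa [MonoidHom.map_zpowers] at h
  have hXD : X ≤ stab2 (pt H) b := zpowers_le.2 (hED x (hPE hx))
  have hX1 : X ≠ ⊥ := zpowers_ne_bot.2 fun e => hx1 (Subtype.ext e)
  have hvX : (v : G) • b ∈ fixSet H X := fun t ht => by
    obtain ⟨i, rfl⟩ := mem_zpowers_iff.1 ht
    exact mem_stabilizer_iff.1 (zpow_mem (mem_stabilizer_iff.2 hxv) i :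
      (x : G) ^ i ∈ stabilizer G ((v : G) • b))
  rcases hg hx1 with hfix | h2
  · rw [hfix] at hvX
    exact ⟨1, one_mem _, by simp, by rw [one_smul]; exact (hvX.resolve_left hne).symm⟩
  · obtain ⟨T, hT2, hTle, -, htr⟩ := exists_twoGroup hS hb hX1 hr hXr hXD h2
    obtain ⟨t, ht, htv⟩ := htr _ hvX hne
    obtain ⟨htH, htM⟩ := mem_of_two hS hT hT2 (hTle.trans inf_le_right) ht
    exact ⟨⟨t, htH⟩, htM,
      Subtype.ext (mem_centralizer_iff.1 (mem_inf.1 (hTle ht)).1 _ (mem_zpowers _)).symm, htv⟩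

/-- A good prime controls. -/
theorem sylowControl_of_goodFor {b : G ⧸ H} (hb : pt H ≠ b) {M : Subgroup H} [M.Normal]
    (hT : ∀ t : H, (∃ n, orderOf t = 2 ^ n) → t ∈ M) {r : ℕ} (hr : r.Prime)
    (hrE : r ∣ Nat.card ↥(M ⊓ (stabilizer G b).subgroupOf H)) (hg : GoodFor H (pt H) b r) :
    BenderCons37.SylowControl r (M ⊓ (stabilizer G b).subgroupOf H) M := by
  haveI := Fact.mk hr
  set E := M ⊓ (stabilizer G b).subgroupOf H with hE
  obtain ⟨S⟩ : Nonempty (Sylow r E) := inferInstance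
  set P : Subgroup H := (S : Subgroup E).map E.subtype with hP
  have hPE : P ≤ E := map_subtype_le _
  have hPr : IsPGroup r P := S.2.map _
  have hPidx : ¬ r ∣ P.relIndex E := by
    rw [hP, Subgroup.relIndex, Subgroup.subgroupOf, Subgroup.comap_map_eq_self_of_injective E.subtype_injective]
    exact S.not_dvd_index
  have hED : ∀ {Y : Subgroup H}, Y ≤ E → Y.map H.subtype ≤ stab2 (pt H) b := by
    rintro Y hY _ ⟨x, hx, rfl⟩
    exact (mem_stab2_pt x).2 (mem_inf.1 (hY hx)).2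
  refine ⟨P, hPE, hPr, not_dvd_of_good hS hb hT hr hrE hPE hPr hPidx (hg _ (hPr.map _) (hED hPE) ?_),
    fun x hx u hu hy => fusion_of_good hS hb hT hr hPE hPr hx hu hy fun hx1 => ?_⟩
  · refine (Subgroup.map_eq_bot_iff_of_injective _ H.subtype_injective).not.2 fun h => hPidx ?_
    rw [h, Subgroup.relIndex_bot_left]
    exact hrE
  · have h := hg ((zpowers x).map H.subtype) ((hPr.to_le (zpowers_le.2 hx)).map _)
      (hED ((zpowers_le.2 hx).trans hPE))
      ((Subgroup.map_eq_bot_iff_of_injective _ H.subtype_injective).not.2 (zpowers_ne_bot.2 hx1))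
    rwa [MonoidHom.map_zpowers] at h

/-- Control for every prime gives the regular normal subgroup. -/
theorem hasSplit_of_control {b : G ⧸ H} (hb : pt H ≠ b)
    (h : ∀ M : Subgroup H, M.Normal → (∀ t : H, (∃ n, orderOf t = 2 ^ n) → t ∈ M) →
      ∀ r, r.Prime → r ∣ Nat.card ↥(M ⊓ (stabilizer G b).subgroupOf H) →
      BenderCons37.SylowControl r (M ⊓ (stabilizer G b).subgroupOf H) M) : HasSplit H := by
  obtain ⟨g, rfl⟩ := QuotientGroup.mk_surjective b
  set D := (stabilizer G (QuotientGroup.mk g : G ⧸ H)).subgroupOf H with hD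
  have hodd : Odd (Nat.card D) := odd_card_stab (hC := hS.ctx) hb
  haveI : Group.IsSolvable D := solvable_of_odd hodd
  refine BenderCons37.exists_regularNormal_of_control hS.ctx.se hS.ctx.core (g₀ := g)
    (fun hg => hb ((smul_pt.2 hg).symm.trans (by simp [pt, MulAction.Quotient.smul_mk])))
    D (by rw [hD, stabilizer_mk]) {t | ∃ n, orderOf t = 2 ^ n} ?_ fun M hM hTM _ => h M hM hTM
  rintro t ⟨n, hn⟩
  rw [hn]
  exact (Nat.coprime_two_left.2 hodd).pow_left n

end Cfsg.Agent.Bender27
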