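import Cfsg.Agent.Bender27.Basic
import Cfsg.Agent.Bender27.Structure

/-!
The fixed points of the complement `B` on the involutions at a point, and the shape of `B` at a
bad prime (see `PLAN.md`).
-/

set_option autoImplicit false

namespace Cfsg.Agent.Bender27

open Subgroup MulAction Bender43 Bender43.Fixed Bender85

universe u

variable {G : Type u} [Group G] [Finite G] {H : Subgroup G} {u z : G} {a b c : G ⧸ H}
  {K B : Subgroup G}

omit [Finite G] in
theorem centralizer_zpowers_eq (y : G) :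
    centralizer ((zpowers y : Subgroup G) : Set G) = centralizer ({y} : Set G) := by
  ext g
  refine ⟨fun h => mem_centralizer_singleton_iff.2 (mem_centralizer_iff.1 h y (mem_zpowers y)).symm,
    fun h => mem_centralizer_iff.2 ?_⟩
  intro x hx
  obtain ⟨n, rfl⟩ := mem_zpowers_iff.1 hx
  exact ((show Commute y g from (mem_centralizer_singleton_iff.1 h).symm).zpow_left n).eq

omit [Finite G] in
/-- An element of `G_ab` centralising `z` lies in `B`. -/
theorem DStruct.mem_B_of_commute (S : DStruct u z a b K B) {d : G} (hd : d ∈ stab2 a b)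
    (h : Commute d z) : d ∈ B := by
  obtain ⟨l, hl, y, hy, rfl⟩ := S.prod d hd
  have hl1 : l = 1 := by
    refine S.free l hl z S.z_mem ?_
    show l * z = z * l
    calc l * z = l * (z * y) * y⁻¹ := by group
      _ = l * (y * z) * y⁻¹ := by rw [(S.B_z y hy).eq]
      _ = l * y * z * y⁻¹ := by group
      _ = z * (l * y) * y⁻¹ := by rw [h.eq]
      _ = z * l := by group
  rw [hl1, one_mul]
  exact hy

/-- The involutions at `a` centralising `y` correspond to the centraliser of `y` in `K`. -/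
theorem DStruct.card_inf_centralizer (S : DStruct u z a b K B) {y : G} (hy : y ∈ B) :
    Nat.card ↥(K ⊓ centralizer ({y} : Set G)) = {v | v ∈ invAt H a ∧ Commute v y}.ncard := by
  set C : Subgroup G := K ⊓ centralizer ({y} : Set G) with hC
  have hyz : y * z * y⁻¹ = z := by rw [← (S.B_z y hy).eq, mul_inv_cancel_right]
  have hset : {v | v ∈ invAt H a ∧ Commute v y} = (fun k => k * z * k⁻¹) '' (C : Set G) := by
    ext v
    constructor
    · rintro ⟨hv, hvy⟩
      obtain ⟨k, hk, rfl⟩ := S.reg z S.z_mem v hv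
      refine ⟨k, ⟨hk, ?_⟩, rfl⟩
      have hk' := S.B_norm y (S.B_le hy) k hk
      have hc : k⁻¹ * (y * k * y⁻¹) = 1 := by
        refine S.free _ (mul_mem (inv_mem hk) hk') z S.z_mem ?_
        have h1 : y * (k * z * k⁻¹) * y⁻¹ = k * z * k⁻¹ := by
          rw [← hvy.eq, mul_inv_cancel_right]
        show k⁻¹ * (y * k * y⁻¹) * z = z * (k⁻¹ * (y * k * y⁻¹))
        calc k⁻¹ * (y * k * y⁻¹) * z = k⁻¹ * (y * k * y⁻¹) * (y * z * y⁻¹) := by rw [hyz]
          _ = k⁻¹ * (y * (k * z * k⁻¹) * y⁻¹) * (y * k * y⁻¹) := by group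
          _ = k⁻¹ * (k * z * k⁻¹) * (y * k * y⁻¹) := by rw [h1]
          _ = z * (k⁻¹ * (y * k * y⁻¹)) := by group
      rw [inv_mul_eq_one] at hc
      exact mem_centralizer_singleton_iff.2 (eq_mul_inv_iff_mul_eq.1 hc)
    · rintro ⟨k, hk, rfl⟩
      obtain ⟨hkK, hky⟩ := mem_inf.1 hk
      refine ⟨⟨by rw [TwoFusionB.orderOf_conj_eq, S.z_mem.1], ?_⟩,
        mem_centralizer_singleton_iff.1 (mul_mem (s := centralizer ({y} : Set G))
          (mul_mem hky (mem_centralizer_singleton_iff.2 (S.B_z y hy).eq)) (inv_mem hky))⟩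
      have hka : k • a = a := mem_stabilizer_iff.1 (mem_inf.1 (S.K_le hkK)).1
      rw [mul_smul, mul_smul, inv_smul_eq_iff.2 hka.symm, S.z_mem.2, hka]
  rw [hset, Set.ncard_image_of_injOn, ← Nat.card_coe_set_eq]
  · rfl
  intro k hk l hl hkl
  refine (inv_mul_eq_one.1 (S.free _ (mul_mem (inv_mem (mem_inf.1 hl).1) (mem_inf.1 hk).1) z
    S.z_mem ?_)).symm
  show l⁻¹ * k * z = z * (l⁻¹ * k)
  calc l⁻¹ * k * z = l⁻¹ * (k * z * k⁻¹) * k := by group
    _ = l⁻¹ * (l * z * l⁻¹) * k := by rw [show k * z * k⁻¹ = l * z * l⁻¹ from hkl]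
    _ = z * (l⁻¹ * k) := by group

/-- The fixed points of a subgroup of `B` form the field fixed by a subgroup of that order. -/
theorem card_fixed (hD : DStruct u z a b K B) {Y : Subgroup G} (hY : Y ≤ B) {e : ℕ}
    (he : (invAt H a).ncard + 1 = 2 ^ e) :
    (Nat.card ↥(K ⊓ centralizer (Y : Set G)) + 1) ^ Nat.card Y = 2 ^ e := by
  haveI := hD.B_cyclic
  haveI : IsCyclic Y := isCyclic_of_injective _ (inclusion_injective hY)
  obtain ⟨y, rfl⟩ := isCyclic_iff_exists_zpowers_eq_top.1 ‹IsCyclic Y› |>.elim fun g hg =>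
    (⟨(g : G), le_antisymm (zpowers_le.2 g.2) fun x hx => by
      obtain ⟨n, hn⟩ := mem_zpowers_iff.1 (hg ▸ mem_top (⟨x, hx⟩ : Y))
      exact mem_zpowers_iff.2 ⟨n, by rw [← Subgroup.coe_zpow, hn]⟩⟩ : ∃ y : G, zpowers y = Y)
  have hy : y ∈ B := hY (mem_zpowers y)
  rw [centralizer_zpowers_eq, hD.card_inf_centralizer hy, Nat.card_zpowers, hD.card_fixed y hy, he]

omit [Finite G] in
/-- A subgroup of `B` centralised by an element of `K` other than `1` is centralised by two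
involutions at `a`. -/
theorem twoAt_of_centralized (hD : DStruct u z a b K B) {X : Subgroup G} (hXB : X ≤ B) {k : G}
    (hk : k ∈ K) (hk1 : k ≠ 1) (hkX : k ∈ centralizer (X : Set G)) : TwoAt H a X := by
  have hzX : z ∈ centralizer (X : Set G) :=
    mem_centralizer_iff.2 fun x hx => (hD.B_z x (hXB hx)).symm.eq
  refine ⟨z, hD.z_mem, k * z * k⁻¹, ⟨by rw [TwoFusionB.orderOf_conj_eq, hD.z_mem.1], ?_⟩, ?_, hzX,
    mul_mem (mul_mem hkX hzX) (inv_mem hkX)⟩
  · have hka : k • a = a := mem_stabilizer_iff.1 (mem_inf.1 (hD.K_le hk)).1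
    rw [mul_smul, mul_smul, inv_smul_eq_iff.2 hka.symm, hD.z_mem.2, hka]
  · exact fun h => hk1 (hD.free k hk z hD.z_mem (eq_mul_inv_iff_mul_eq.1 h).symm)

/-- A bad `r`-group is conjugate into `B` by an element of `K` and has the full order `e`. -/
theorem card_eq_of_bad (hS : Step H) (hu : Swap H u a b c) (hD : DStruct u z a b K B) {r : ℕ}
    (hr : r.Prime) {X : Subgroup G} (hX : IsPGroup r X) (hXD : X ≤ stab2 a b)
    (hfix : fixSet H X ≠ {a, b}) (h2 : ¬ TwoAt H a X) {e : ℕ}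
    (he : (invAt H a).ncard + 1 = 2 ^ e) :
    Nat.card X = e ∧ ∃ k ∈ K, X.map (MulAut.conj k⁻¹).toMonoidHom ≤ B := by
  haveI := Fact.mk hr
  have haX : a ∈ fixSet H X := fun t ht => mem_stabilizer_iff.1 (mem_inf.1 (hXD ht)).1
  have hbX : b ∈ fixSet H X := fun t ht => mem_stabilizer_iff.1 (mem_inf.1 (hXD ht)).2
  obtain ⟨p, hp, hpa, hpb⟩ : ∃ p ∈ fixSet H X, p ≠ a ∧ p ≠ b := by
    by_contra hall
    push Not at hall
    refine hfix (Set.Subset.antisymm (fun p hp => ?_) ?_)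
    · by_cases h : p = a
      · exact Or.inl h
      · exact Or.inr (hall p hp h)
    · rintro p (rfl | rfl)
      · exact haX
      · exact hbX
  obtain ⟨v, hv, hva, hvX⟩ :=
    centred hS hr X hX ⟨a, haX, b, hbX, p, hp, hu.ne, Ne.symm hpa, Ne.symm hpb⟩ a haX
  obtain ⟨k, hk, hkv⟩ := hD.reg z hD.z_mem v ⟨hv, hva⟩
  -- a conjugate of `X` lies in `B`
  set X' : Subgroup G := X.map (MulAut.conj k⁻¹).toMonoidHom with hX'
  have hXB : X' ≤ B := by
    rintro _ ⟨x, hx, rfl⟩
    show k⁻¹ * x * k⁻¹⁻¹ ∈ B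
    rw [inv_inv]
    refine hD.mem_B_of_commute (mul_mem (mul_mem (inv_mem (hD.K_le hk)) (hXD hx)) (hD.K_le hk)) ?_
    have h : Commute v x := (mem_centralizer_iff.1 hvX x hx).symm
    show k⁻¹ * x * k * z = z * (k⁻¹ * x * k)
    calc k⁻¹ * x * k * z = k⁻¹ * x * (k * z * k⁻¹) * k := by group
      _ = k⁻¹ * (x * v) * k := by rw [hkv]; group
      _ = k⁻¹ * (v * x) * k := by rw [h.eq]
      _ = k⁻¹ * (k * z * k⁻¹) * x * k := by rw [hkv]; group
      _ = z * (k⁻¹ * x * k) := by group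
  have hcard : Nat.card X' = Nat.card X :=
    card_map_of_injective (MulAut.conj k⁻¹).injective
  -- which nothing in `K` centralises
  have hC : K ⊓ centralizer (X' : Set G) = ⊥ := by
    refine (eq_bot_iff_forall _).2 fun l hl => ?_
    by_contra hl1
    obtain ⟨z1, hz1, w1, hw1, hne, hz1X, hw1X⟩ :=
      twoAt_of_centralized hD hXB (mem_inf.1 hl).1 hl1 (mem_inf.1 hl).2
    have hka : k • a = a := mem_stabilizer_iff.1 (mem_inf.1 (hD.K_le hk)).1
    have hmove : ∀ i ∈ invAt H a, i ∈ centralizer (X' : Set G) →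
        k * i * k⁻¹ ∈ invAt H a ∧ k * i * k⁻¹ ∈ centralizer (X : Set G) := by
      refine fun i hi hiX => ⟨⟨by rw [TwoFusionB.orderOf_conj_eq, hi.1], ?_⟩,
        mem_centralizer_iff.2 fun x hx => ?_⟩
      · rw [mul_smul, mul_smul, inv_smul_eq_iff.2 hka.symm, hi.2, hka]
      · have h := mem_centralizer_iff.1 hiX _
          (show k⁻¹ * x * k⁻¹⁻¹ ∈ X' from ⟨x, hx, rfl⟩)
        rw [inv_inv] at h
        calc x * (k * i * k⁻¹) = k * (k⁻¹ * x * k * i) * k⁻¹ := by group
          _ = k * (i * (k⁻¹ * x * k)) * k⁻¹ := by rw [h]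
          _ = k * i * k⁻¹ * x := by group
    obtain ⟨hm1, hn1⟩ := hmove z1 hz1 hz1X
    obtain ⟨hm2, hn2⟩ := hmove w1 hw1 hw1X
    exact h2 ⟨_, hm1, _, hm2, fun h => hne (mul_left_cancel (mul_right_cancel h)), hn1, hn2⟩
  have hpow := card_fixed hD hXB he
  rw [hC, card_bot, hcard] at hpow
  have heX : Nat.card X = e := Nat.pow_right_injective le_rfl hpow
  exact ⟨heX, k, hk, hXB⟩

/-- At a bad prime `B` is a group of that prime power order, the full dimension. -/
theorem goodFor_or_big (hS : Step H) (hu : Swap H u a b c) (hD : DStruct u z a b K B) {r : ℕ}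
    (hr : r.Prime) (hbad : ¬ GoodFor H a b r) {e : ℕ} (he : (invAt H a).ncard + 1 = 2 ^ e) :
    ∃ j, 0 < j ∧ e = r ^ j ∧ Nat.card B = r ^ j := by
  haveI := Fact.mk hr
  unfold GoodFor at hbad
  push Not at hbad
  obtain ⟨X, hX, hXD, hX1, hfix, h2⟩ := hbad
  obtain ⟨heX, k, hk, hXB⟩ := card_eq_of_bad hS hu hD hr hX hXD hfix h2 he
  have hcard : Nat.card ↥(X.map (MulAut.conj k⁻¹).toMonoidHom) = Nat.card X :=
    card_map_of_injective (MulAut.conj k⁻¹).injective
  obtain ⟨j, hj⟩ := IsPGroup.iff_card.1 hX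
  refine ⟨j, Nat.pos_of_ne_zero fun h => hX1 (card_eq_one.1 (by rw [hj, h, pow_zero])),
    heX.symm.trans hj, ?_⟩
  refine Nat.dvd_antisymm ?_ (hj ▸ hcard ▸ card_dvd_of_le hXB)
  exact (hD.card_B e he).trans (heX.symm.trans hj).dvd

end Cfsg.Agent.Bender27
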