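import Cfsg.Agent.Bender27.Control
import Cfsg.Agent.Bender27.Galois

/-!
Transfer when the complement `B` is a cyclic group of order `r ^ j`, `j ≥ 2`: a bad Sylow subgroup
of the two-point stabiliser is a Sylow subgroup of `H` centralised by its normaliser.
-/

set_option autoImplicit false
set_option linter.unusedSectionVars false

namespace Cfsg.Agent.Bender27

open Subgroup MulAction Bender43 Bender43.Fixed Bender85

universe u

variable {G : Type u} [Group G] [Finite G] {H : Subgroup G}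

/-- Commutators of the two-point stabiliser lie in `K`. -/
theorem DStruct.commutator_mem {u z : G} {a b : G ⧸ H} {K B : Subgroup G}
    (S : DStruct u z a b K B) {d x : G} (hd : d ∈ stab2 a b) (hx : x ∈ stab2 a b) :
    d * x * d⁻¹ * x⁻¹ ∈ K := by
  obtain ⟨k, hk, y, hy, rfl⟩ := S.prod d hd
  obtain ⟨l, hl, w, hw, rfl⟩ := S.prod x hx
  have hyw : y * w = w * y := by
    haveI := S.B_cyclic
    haveI : IsMulCommutative B := IsCyclic.isMulCommutative
    exact congrArg Subtype.val (mul_comm' (⟨y, hy⟩ : B) ⟨w, hw⟩)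
  rw [show k * y * (l * w) * (k * y)⁻¹ * (l * w)⁻¹
      = k * (y * l * y⁻¹) * (y * w * y⁻¹ * k⁻¹ * w⁻¹) * l⁻¹ by group, hyw]
  rw [show w * y * y⁻¹ * k⁻¹ * w⁻¹ = w * k⁻¹ * w⁻¹ by group]
  exact mul_mem (mul_mem (mul_mem hk (S.B_norm y (S.B_le hy) l hl))
    (S.B_norm w (S.B_le hw) _ (inv_mem hk))) (inv_mem hl)

/-- A prime `r` does not divide `2 ^ (r ^ j) - 1`. -/
theorem not_dvd_two_pow_sub_one {r : ℕ} (hr : r.Prime) (j : ℕ) : ¬ r ∣ 2 ^ r ^ j - 1 := by
  haveI := Fact.mk hr
  intro h
  have h1 : ((2 ^ r ^ j - 1 : ℕ) : ZMod r) = 0 := (ZMod.natCast_eq_zero_iff _ _).2 h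
  rw [Nat.cast_sub Nat.one_le_two_pow, Nat.cast_pow, ZMod.pow_card_pow, Nat.cast_one] at h1
  norm_num at h1

theorem sylowControl_of_bigPow (hS : Step H) {b c : G ⧸ H} {u z : G} {K B : Subgroup G}
    (hu : Swap H u (pt H) b c) (hD : DStruct u z (pt H) b K B) {r j : ℕ} (hr : r.Prime)
    (hj : 2 ≤ j) (hB : Nat.card B = r ^ j) (he : (invAt H (pt H)).ncard + 1 = 2 ^ r ^ j)
    {M : Subgroup H} [M.Normal] (hT : ∀ t : H, (∃ n, orderOf t = 2 ^ n) → t ∈ M)
    (hrE : r ∣ Nat.card ↥(M ⊓ (stabilizer G b).subgroupOf H)) :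
    BenderCons37.SylowControl r (M ⊓ (stabilizer G b).subgroupOf H) M := by
  classical
  haveI := Fact.mk hr
  have hb := hu.ne
  set E := M ⊓ (stabilizer G b).subgroupOf H with hE
  obtain ⟨S⟩ : Nonempty (Sylow r E) := inferInstance
  set P : Subgroup H := (S : Subgroup E).map E.subtype with hP
  have hPE : P ≤ E := map_subtype_le _
  have hPr : IsPGroup r P := S.2.map _
  have hPidx : ¬ r ∣ P.relIndex E := by
    rw [hP, Subgroup.relIndex, Subgroup.subgroupOf,
      Subgroup.comap_map_eq_self_of_injective E.subtype_injective]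
    exact S.not_dvd_index
  set X : Subgroup G := P.map H.subtype with hX
  have hXr : IsPGroup r X := hPr.map _
  have hXD : X ≤ stab2 (pt H) b := by
    rintro _ ⟨x, hx, rfl⟩
    exact (mem_stab2_pt x).2 (mem_inf.1 (hPE hx)).2
  -- small subgroups are good
  have hgood : ∀ Y : Subgroup G, IsPGroup r Y → Y ≤ stab2 (pt H) b →
      (Nat.card Y ≠ r ^ j) → fixSet H Y = {pt H, b} ∨ TwoAt H (pt H) Y := by
    intro Y hY hYD hne
    by_contra h
    rw [not_or] at h
    exact hne (card_eq_of_bad hS hu hD hr hY hYD h.1 h.2 he).1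
  by_cases hbad : fixSet H X = {pt H, b} ∨ TwoAt H (pt H) X
  · refine ⟨P, hPE, hPr, not_dvd_of_good hS hb hT hr hrE hPE hPr hPidx hbad,
      fun x hx v hv hy => fusion_of_good hS hb hT hr hPE hPr hx hv hy fun _ => ?_⟩
    have hle : zpowers (x : G) ≤ X := zpowers_le.2 (mem_map_of_mem H.subtype hx)
    by_cases hlt : zpowers (x : G) = X
    · rw [hlt]; exact hbad
    refine hgood _ (hXr.to_le hle) (hle.trans hXD) fun hc => hlt (eq_of_le_of_card_ge hle ?_)
    obtain ⟨i, hi⟩ := IsPGroup.iff_card.1 hXr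
    rw [hc, hi]
    -- `X` embeds in `B`
    refine Nat.pow_le_pow_right hr.pos ?_
    by_contra hji
    have hKB : Nat.card X ∣ Nat.card (stab2 (pt H) b : Subgroup G) := card_dvd_of_le hXD
    have hDcard : Nat.card (stab2 (pt H) b : Subgroup G) = Nat.card K * Nat.card B := by
      rw [← Nat.card_prod]
      refine (Nat.card_eq_of_bijective
        (fun q : K × B => (⟨q.1 * q.2, mul_mem (hD.K_le q.1.2) (hD.B_le q.2.2)⟩ :
          (stab2 (pt H) b : Subgroup G))) ⟨?_, ?_⟩).symm
      · exact fun q q' h => mul_injective_of_disjoint (disjoint_iff.2 hD.inf) (congrArg Subtype.val h)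
      · rintro ⟨d, hd⟩
        obtain ⟨k, hk, y, hy, rfl⟩ := hD.prod d hd
        exact ⟨(⟨k, hk⟩, ⟨y, hy⟩), rfl⟩
    rw [hDcard, hD.card_K, hB, hi] at hKB
    have hk' : ¬ r ∣ (invAt H (pt H)).ncard := by
      have h := not_dvd_two_pow_sub_one hr j
      rwa [← he, Nat.add_sub_cancel] at h
    have h' := Nat.Coprime.dvd_of_dvd_mul_left
      (((hr.coprime_iff_not_dvd.2 hk').pow_left i)) hKB
    exact hji ((Nat.pow_dvd_pow_iff_le_right hr.one_lt).1 h')
  -- the bad case: `X` is a conjugate of `B`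
  rw [not_or] at hbad
  obtain ⟨hXcard, k, hk, hXB⟩ := card_eq_of_bad hS hu hD hr hXr hXD hbad.1 hbad.2 he
  have hXc : IsCyclic X := by
    haveI := hD.B_cyclic
    haveI := isCyclic_of_injective _ (inclusion_injective hXB)
    exact (equivMapOfInjective X (MulAut.conj k⁻¹).toMonoidHom (MulAut.conj k⁻¹).injective).isCyclic.2
      inferInstance
  haveI := hXc
  haveI : IsMulCommutative X := IsCyclic.isMulCommutative
  obtain ⟨x0, hx0⟩ := exists_prime_orderOf_dvd_card' (G := X) r
    (hXcard ▸ dvd_pow_self r (by omega))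
  set X0 : Subgroup G := zpowers (x0 : G) with hX0
  have hX0X : X0 ≤ X := zpowers_le.2 x0.2
  have hX0c : Nat.card X0 = r := by rw [hX0, Nat.card_zpowers, Subgroup.orderOf_coe, hx0]
  have hX01 : X0 ≠ ⊥ := fun h => hr.ne_one (by rw [← hX0c, h, card_bot])
  have hTwo : TwoAt H (pt H) X0 := by
    refine (hgood X0 (hXr.to_le hX0X) (hX0X.trans hXD) ?_).resolve_left fun h => hbad.1 ?_
    · rw [hX0c]
      exact fun h => (Nat.pow_right_injective hr.two_le ((pow_one r).trans h) ▸ hj).not_gt one_lt_two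
    · refine Set.Subset.antisymm (h ▸ fixSet_anti hX0X) ?_
      rintro p (rfl | rfl)
      · exact fun t ht => mem_stabilizer_iff.1 (mem_inf.1 (hXD ht)).1
      · exact fun t ht => mem_stabilizer_iff.1 (mem_inf.1 (hXD ht)).2
  obtain ⟨T, hT2, hTle, -, htr⟩ :=
    exists_twoGroup hS hb hX01 hr (hXr.to_le hX0X) (hX0X.trans hXD) hTwo
  -- `L`, the part of `H` centralising `x0`
  set L : Subgroup H := (centralizer (X0 : Set G)).subgroupOf H with hL
  set DL : Subgroup H := L ⊓ (stabilizer G b).subgroupOf H with hDL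
  have hkey : ∀ v : H, (v : G) ∈ normalizer (X0 : Set G) → v ∈ L := by
    intro v hv
    have hq : (v : G) • b ∈ fixSet H X0 :=
      smul_mem_fixSet hv fun t ht => mem_stabilizer_iff.1 (mem_inf.1 ((hX0X.trans hXD) ht)).2
    obtain ⟨t, ht, htv⟩ := htr _ hq fun e =>
      hb (smul_left_cancel (v : G) (e.trans (smul_pt.2 v.2).symm)).symm
    have htC := (mem_inf.1 (hTle ht)).1
    have hta : t • pt H = pt H := mem_stabilizer_iff.1 (mem_inf.1 (hTle ht)).2
    set d := t⁻¹ * (v : G) with hd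
    have hdD : d ∈ stab2 (pt H) b := by
      refine mem_inf.2 ⟨?_, ?_⟩ <;> rw [mem_stabilizer_iff, hd, mul_smul, inv_smul_eq_iff]
      · rw [hta, smul_pt.2 v.2]
      · exact htv.symm
    have hdN : d ∈ normalizer (X0 : Set G) :=
      mul_mem (inv_mem (centralizer_le_normalizer _ htC)) hv
    have hdC : d ∈ centralizer (X0 : Set G) := by
      refine mem_centralizer_iff.2 fun x hx => ?_
      have hxD : x ∈ stab2 (pt H) b := (hX0X.trans hXD) hx
      have h1 : d * x * d⁻¹ * x⁻¹ ∈ K ⊓ X0 := mem_inf.2 ⟨hD.commutator_mem hdD hxD,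
        mul_mem ((mem_normalizer_iff.1 hdN x).1 hx) (inv_mem hx)⟩
      have hKX : K ⊓ X0 = ⊥ := by
        refine inf_eq_bot_of_coprime ?_
        rw [hD.card_K, hX0c]
        refine (hr.coprime_iff_not_dvd.2 ?_).symm
        have h := not_dvd_two_pow_sub_one hr j
        rwa [← he, Nat.add_sub_cancel] at h
      rw [hKX, mem_bot, mul_inv_eq_one, mul_inv_eq_iff_eq_mul] at h1
      exact h1.symm
    refine mem_subgroupOf.2 ?_
    rw [show (v : G) = t * d by rw [hd, mul_inv_cancel_left]]
    exact mul_mem htC hdC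
  have hX0P : ∀ v : H, v ∈ normalizer (P : Set H) → (v : G) ∈ normalizer (X0 : Set G) := by
    intro v hv
    have hvX : (v : G) ∈ normalizer (X : Set G) :=
      Subgroup.le_normalizer_map H.subtype (mem_map_of_mem H.subtype hv)
    have hy : (v : G) * x0 * (v : G)⁻¹ ∈ X0 := by
      set y : X := ⟨_, (mem_normalizer_iff.1 hvX x0).1 x0.2⟩ with hy'
      have hyo : orderOf y = r := by
        rw [← Subgroup.orderOf_coe]
        show orderOf ((v : G) * x0 * (v : G)⁻¹) = r
        rw [TwoFusionB.orderOf_conj_eq, Subgroup.orderOf_coe, hx0]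
      have hyx : y ∈ zpowers x0 := by
        haveI := Fintype.ofFinite X
        have hsub : (zpowers x0 : Set X).toFinset ⊆ Finset.univ.filter (fun z : X => z ^ r = 1) := by
          intro z hz
          obtain ⟨i, rfl⟩ := mem_zpowers_iff.1 (Set.mem_toFinset.1 hz)
          refine Finset.mem_filter.2 ⟨Finset.mem_univ _, ?_⟩
          rw [← zpow_natCast, zpow_comm, zpow_natCast, ← hx0, pow_orderOf_eq_one, one_zpow]
        have heq := Finset.eq_of_subset_of_card_le hsub ((IsCyclic.card_pow_eq_one_le hr.pos).trans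
          (le_of_eq (by rw [Set.toFinset_card, ← Nat.card_eq_fintype_card]
                        exact hx0.symm.trans (Nat.card_zpowers x0).symm)))
        exact Set.mem_toFinset.1
          (heq ▸ Finset.mem_filter.2 ⟨Finset.mem_univ _, hyo ▸ pow_orderOf_eq_one y⟩)
      have := mem_map_of_mem X.subtype hyx
      rwa [MonoidHom.map_zpowers] at this
    refine mem_normalizer_iff_map_conj_eq.2 (eq_of_le_of_card_ge ?_ ?_)
    · rw [hX0, MonoidHom.map_zpowers, zpowers_le]
      exact hy
    · exact (card_map_of_injective (MulAut.conj (v : G)).injective).ge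
  have hPL : P ≤ L := fun x hx => mem_subgroupOf.2 (mem_centralizer_iff.2 fun y hy =>
    congrArg Subtype.val (mul_comm' (⟨y, hX0X hy⟩ : X) ⟨x, mem_map_of_mem H.subtype hx⟩))
  -- `P` is a Sylow subgroup of `L`
  have hLidx : ¬ r ∣ P.relIndex L := by
    have hPDL : P ≤ DL := le_inf hPL (hPE.trans inf_le_right)
    rw [← Subgroup.relIndex_mul_relIndex P DL L hPDL inf_le_left, hr.dvd_mul, not_or]
    constructor
    · intro h
      have hc : Nat.card P = r ^ j := by
        rw [← hXcard, hX, card_map_of_injective H.subtype_injective]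
      have hmul : r ^ (j + 1) ∣ Nat.card DL := by
        rw [pow_succ, ← hc, ← Subgroup.card_mul_index (P.subgroupOf DL),
          Nat.card_congr (subgroupOfEquivOfLe hPDL).toEquiv]
        exact Nat.mul_dvd_mul_left _ h
      have hDLD : Nat.card DL ∣ Nat.card K * Nat.card B := by
        rw [← Subgroup.card_map_of_injective H.subtype_injective (K := DL)]
        refine (card_dvd_of_le (?_ : DL.map H.subtype ≤ stab2 (pt H) b)).trans (dvd_of_eq ?_)
        · rintro _ ⟨x, hx, rfl⟩
          exact (mem_stab2_pt x).2 (mem_inf.1 hx).2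
        · rw [← Nat.card_prod]
          refine (Nat.card_eq_of_bijective
            (fun q : K × B => (⟨q.1 * q.2, mul_mem (hD.K_le q.1.2) (hD.B_le q.2.2)⟩ :
              (stab2 (pt H) b : Subgroup G))) ⟨?_, ?_⟩).symm
          · exact fun q q' h => mul_injective_of_disjoint (disjoint_iff.2 hD.inf) (congrArg Subtype.val h)
          · rintro ⟨d, hd⟩
            obtain ⟨k, hk, y, hy, rfl⟩ := hD.prod d hd
            exact ⟨(⟨k, hk⟩, ⟨y, hy⟩), rfl⟩
      have hd' := hmul.trans hDLD
      rw [hD.card_K, hB] at hd'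
      have hk' : ¬ r ∣ (invAt H (pt H)).ncard := by
        have h := not_dvd_two_pow_sub_one hr j
        rwa [← he, Nat.add_sub_cancel] at h
      have := (Nat.pow_dvd_pow_iff_le_right hr.one_lt).1
        (Nat.Coprime.dvd_of_dvd_mul_left ((hr.coprime_iff_not_dvd.2 hk').pow_left _) hd')
      omega
    · have hst : DL.subgroupOf L = stabilizer L b := by
        ext v
        exact ⟨fun h => mem_stabilizer_iff.2 (mem_subgroupOf.1 (mem_inf.1 (mem_subgroupOf.1 h)).2),
          fun h => mem_subgroupOf.2 (mem_inf.2 ⟨v.2, mem_subgroupOf.2 (mem_stabilizer_iff.1 h)⟩)⟩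
      rw [Subgroup.relIndex, hst, MulAction.index_stabilizer]
      have horb : orbit L b = orbit T b := by
        refine Set.Subset.antisymm ?_ ?_
        · rintro _ ⟨v, rfl⟩
          have hq : ((v : H) : G) • b ∈ fixSet H X0 := smul_mem_fixSet
            (centralizer_le_normalizer _ (mem_subgroupOf.1 v.2))
            fun t ht => mem_stabilizer_iff.1 (mem_inf.1 ((hX0X.trans hXD) ht)).2
          obtain ⟨t, ht, htv⟩ := htr _ hq fun e =>
            hb (smul_left_cancel ((v : H) : G) (e.trans (smul_pt.2 (v : H).2).symm)).symm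
          exact ⟨⟨t, ht⟩, htv⟩
        · rintro _ ⟨t, rfl⟩
          exact ⟨⟨⟨t, smul_pt.1 (hTle t.2).2⟩, mem_subgroupOf.2 (mem_inf.1 (hTle t.2)).1⟩, rfl⟩
      rw [horb, ← MulAction.index_stabilizer]
      intro h
      obtain ⟨n, hn⟩ := IsPGroup.iff_card.1 hT2
      have h2 := (Nat.prime_dvd_prime_iff_eq hr Nat.prime_two).1
        (hr.dvd_of_dvd_pow (hn ▸ h.trans (index_dvd_card _)))
      subst h2
      exact Nat.not_even_iff_odd.2 ((odd_card_stab (hC := hS.ctx) hb).of_dvd_nat
        (card_dvd_of_le (inf_le_right : E ≤ _))) (even_iff_two_dvd.2 hrE)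
  -- its normaliser centralises it
  have hcent : ∀ v : H, v ∈ normalizer (P : Set H) → ∀ x ∈ P, v * x * v⁻¹ = x := by
    intro v hv
    have hvL := hkey v (hX0P v hv)
    haveI hPc : IsCyclic P := (equivMapOfInjective P H.subtype H.subtype_injective).isCyclic.2 hXc
    haveI : IsMulCommutative P := IsCyclic.isMulCommutative
    let f : P →* P := MonoidHom.mk' (fun y => ⟨v * y * v⁻¹, (mem_normalizer_iff.1 hv y).1 y.2⟩)
      fun y y' => Subtype.ext (by simp [mul_assoc])
    obtain ⟨i, hi⟩ := MonoidHom.map_cyclic f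
    -- `f` fixes `x0`
    have hx0P : (x0 : G) ∈ P.map H.subtype := x0.2
    obtain ⟨y0, hy0, hy0'⟩ := hx0P
    have hf0 : f ⟨y0, hy0⟩ = ⟨y0, hy0⟩ := by
      refine Subtype.ext (Subtype.ext ?_)
      show (v : G) * (y0 : G) * (v : G)⁻¹ = y0
      have h := mem_centralizer_iff.1 (mem_subgroupOf.1 hvL) x0 (mem_zpowers _)
      rw [show (y0 : G) = x0 from hy0', ← h, mul_inv_cancel_right]
    have hi1 : (r : ℤ) ∣ i - 1 := by
      have h := hf0
      rw [hi] at h
      have h' : (⟨y0, hy0⟩ : P) ^ (i - 1) = 1 := by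
        rw [zpow_sub, h, zpow_one, mul_inv_cancel]
      have ho : orderOf (⟨y0, hy0⟩ : P) = r := by
        rw [Subgroup.orderOf_mk, ← Subgroup.orderOf_coe y0, show (y0 : G) = x0 from hy0',
          Subgroup.orderOf_coe, hx0]
      rw [← ho]
      exact orderOf_dvd_iff_zpow_eq_one.2 h'
    have hpow : ∀ (n : ℕ) (y : P),
        (⟨v ^ n, pow_mem hv n⟩ : normalizer (P : Set H)).1 * (y : H) * (v ^ n)⁻¹
          = ((y ^ (i ^ n) : P) : H) := by
      intro n
      induction n with
      | zero => intro y; simp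
      | succ n ih =>
        intro y
        have h1 : v * (((y ^ (i ^ n) : P)) : H) * v⁻¹ = (((y ^ (i ^ n) : P) ^ i : P) : H) :=
          congrArg Subtype.val (hi (y ^ (i ^ n)))
        rw [pow_succ i, zpow_mul, ← h1, ← ih y]
        show v ^ (n + 1) * (y : H) * (v ^ (n + 1))⁻¹ = v * (v ^ n * (y : H) * (v ^ n)⁻¹) * v⁻¹
        rw [pow_succ']
        group
    have hq : Nat.card P = r ^ j := by
      rw [← hXcard, hX, card_map_of_injective H.subtype_injective]
    -- the `r ^ j`-th power centralises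
    have hc1 : ∀ y : P, v ^ r ^ j * (y : H) * (v ^ r ^ j)⁻¹ = y := by
      intro y
      refine (hpow (r ^ j) y).trans (congrArg Subtype.val ?_)
      have hd : ((r ^ j : ℕ) : ℤ) ∣ i ^ r ^ j - 1 := by
        have h := dvd_sub_pow_of_dvd_sub hi1 j
        rw [one_pow] at h
        refine dvd_trans ?_ h
        rw [Nat.cast_pow]
        exact pow_dvd_pow _ (Nat.le_succ j)
      have hy : y ^ (i ^ r ^ j - 1) = 1 := orderOf_dvd_iff_zpow_eq_one.1
        ((Int.natCast_dvd_natCast.2 (hq ▸ orderOf_dvd_natCard y)).trans hd)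
      rw [← mul_inv_eq_one, ← zpow_one y, ← zpow_mul, one_mul, ← zpow_sub, hy]
    -- and so does the `m`-th, `m` the part prime to `r`
    obtain ⟨n, m, hm, hnm⟩ := Nat.exists_eq_pow_mul_and_not_dvd (orderOf_pos v).ne' r hr.ne_one
    have hc2 : ∀ y : P, v ^ m * (y : H) * (v ^ m)⁻¹ = y := by
      intro y
      have hw : IsPGroup r (zpowers (v ^ m)) := by
        refine IsPGroup.of_card (n := n) ?_
        rw [Nat.card_zpowers, orderOf_pow_of_dvd (by rintro rfl; exact hm (dvd_zero r))
          ⟨r ^ n, by rw [hnm, mul_comm]⟩, hnm, Nat.mul_div_cancel _ (Nat.pos_of_ne_zero (by rintro rfl; exact hm (dvd_zero r)))]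
      have hS' : IsPGroup r ↥(P ⊔ zpowers (v ^ m)) :=
        hPr.to_sup_of_normal_left' hw (zpowers_le.2 (pow_mem hv m))
      have hle : P ⊔ zpowers (v ^ m) ≤ L := sup_le hPL (zpowers_le.2 (pow_mem hvL m))
      have heq : P = P ⊔ zpowers (v ^ m) := by
        refine eq_of_le_of_card_ge le_sup_left ?_
        obtain ⟨i', hi'⟩ := IsPGroup.iff_card.1 hS'
        have h1 : P.relIndex (P ⊔ zpowers (v ^ m)) = 1 := by
          obtain ⟨t', -, ht'⟩ := (Nat.dvd_prime_pow hr).1
            (hi' ▸ Subgroup.relIndex_dvd_card P (P ⊔ zpowers (v ^ m)))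
          rcases Nat.eq_zero_or_pos t' with rfl | ht0
          · simpa using ht'
          exact absurd ((dvd_pow_self r ht0.ne').trans (ht' ▸ ⟨(P ⊔ zpowers (v ^ m)).relIndex L,
            (Subgroup.relIndex_mul_relIndex P _ L le_sup_left hle).symm⟩)) hLidx
        exact Subgroup.card_le_of_le (Subgroup.relIndex_eq_one.1 h1)
      have hvm : v ^ m ∈ P := heq.symm ▸ mem_sup_right (mem_zpowers _)
      rw [show v ^ m * (y : H) = (y : H) * v ^ m from
        congrArg Subtype.val (mul_comm' (⟨v ^ m, hvm⟩ : P) y), mul_inv_cancel_right]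
    intro x hx
    have hmem : ∀ l : ℕ, v ^ l * x * (v ^ l)⁻¹ = x → v ^ l ∈ centralizer ({x} : Set H) :=
      fun l h => mem_centralizer_singleton_iff.2 (mul_inv_eq_iff_eq_mul.1 h)
    have hco : Nat.Coprime (r ^ j) m := (hr.coprime_iff_not_dvd.2 hm).pow_left j
    have hv' : v ∈ centralizer ({x} : Set H) := by
      have hb' := Nat.gcd_eq_gcd_ab (r ^ j) m
      rw [hco.gcd_eq_one] at hb'
      rw [← zpow_one v, show (1 : ℤ) = ((1 : ℕ) : ℤ) from rfl, hb', zpow_add, zpow_mul, zpow_mul,
        zpow_natCast, zpow_natCast]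
      exact mul_mem (zpow_mem (hmem _ (hc1 ⟨x, hx⟩)) _) (zpow_mem (hmem _ (hc2 ⟨x, hx⟩)) _)
    exact mul_inv_eq_iff_eq_mul.2 (mem_centralizer_singleton_iff.1 hv')
  refine ⟨P, hPE, hPr, fun hdvd => ?_, fun x hx v hv hy => ?_⟩
  · obtain ⟨S', hS'⟩ := (hPr.comap_subtype (K := M)).exists_le_sylow
    set P' : Subgroup H := (S' : Subgroup M).map M.subtype with hP'
    have hPP' : P ≤ P' := fun x hx =>
      ⟨⟨x, (mem_inf.1 (hPE hx)).1⟩, hS' (mem_subgroupOf.2 hx), rfl⟩
    have hlt : P < P' := lt_of_le_of_ne hPP' fun e => by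
      rw [e, hP', Subgroup.relIndex, Subgroup.subgroupOf,
        Subgroup.comap_map_eq_self_of_injective M.subtype_injective] at hdvd
      exact S'.not_dvd_index hdvd
    obtain ⟨w, hw, hwN, hwP⟩ := exists_normalizer_gt (S'.2.map _) hlt
    set Q := P' ⊓ normalizer (P : Set H) with hQ
    have hQL : Q ≤ L := fun q hq => hkey q (hX0P q (mem_inf.1 hq).2)
    have hlt' : P < Q :=
      lt_of_le_of_ne (le_inf hPP' le_normalizer) fun e => hwP (e.symm ▸ mem_inf.2 ⟨hw, hwN⟩)
    obtain ⟨n, hn⟩ := IsPGroup.iff_card.1 ((S'.2.map M.subtype).to_le (inf_le_left : Q ≤ P'))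
    obtain ⟨i, -, hi⟩ := (Nat.dvd_prime_pow hr).1 (hn ▸ Subgroup.relIndex_dvd_card P Q)
    refine hLidx ((?_ : r ∣ P.relIndex Q).trans
      ⟨Q.relIndex L, (Subgroup.relIndex_mul_relIndex P Q L hlt'.le hQL).symm⟩)
    rw [hi]
    refine dvd_pow_self r fun h0 => hlt'.not_ge ?_
    rw [← Subgroup.relIndex_eq_one, hi, h0, pow_zero]
  · by_cases hgen : Nat.card (zpowers (x : G)) = r ^ j
    · have hPx : P = zpowers x := by
        refine (eq_of_le_of_card_ge (zpowers_le.2 hx) ?_).symm
        rw [← card_map_of_injective (K := zpowers x) H.subtype_injective, MonoidHom.map_zpowers]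
        show Nat.card P ≤ Nat.card (zpowers (x : G))
        rw [hgen, ← hXcard, hX, card_map_of_injective H.subtype_injective]
      have hvN : v ∈ normalizer (P : Set H) := by
        refine mem_normalizer_iff_map_conj_eq.2 (eq_of_le_of_card_ge ?_ ?_)
        · rw [hPx, MonoidHom.map_zpowers, zpowers_le]
          exact hPx ▸ hy
        · exact (card_map_of_injective (MulAut.conj v).injective).ge
      exact ⟨1, one_mem _, by rw [hcent v hvN x hx]; simp⟩
    · refine fusion_of_good hS hb hT hr hPE hPr hx hv hy fun _ => hgood _ ?_ ?_ hgen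
      · exact hXr.to_le (zpowers_le.2 (mem_map_of_mem H.subtype hx))
      · exact (zpowers_le.2 (mem_map_of_mem H.subtype hx)).trans hXD

end Cfsg.Agent.Bender27
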