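import Cfsg.Agent.Bender85.Defs
import Cfsg.Agent.BenderCons37.Glue

/-!
Bender's theorem, the step from commuting involutions to a regular normal subgroup: see `PLAN.md`
in this folder for the statements and the files.
-/

set_option autoImplicit false

namespace Cfsg.Agent.Bender27

open Subgroup MulAction Bender43 Bender43.Fixed Bender85

universe u

/-- The standing hypotheses of the step. -/
structure Step {G : Type u} [Group G] (H : Subgroup G) : Prop where
  ctx : Ctx H
  below : BenderCons37.BenderSplitBelow.{u} (Nat.card G)
  comm : Comm H

variable {G : Type u} [Group G] (H : Subgroup G)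

/-- The point `H`. -/
def pt : G ⧸ H := QuotientGroup.mk 1

/-- The conclusion of the step. -/
def HasSplit : Prop := ∃ Q : Subgroup G, BenderCons37.IsRegularNormal H Q

/-- The part of the stabiliser of `a` centralising every involution at `a`. -/
def centInv (a : G ⧸ H) : Subgroup G := stabilizer G a ⊓ centralizer (invAt H a)

/-- The part of a two-point stabiliser centralising every involution at the first point. -/
def wPart (a b : G ⧸ H) : Subgroup G := stab2 a b ⊓ centralizer (invAt H a)

/-- Two different involutions at `a` centralise `X`. -/
def TwoAt (a : G ⧸ H) (X : Subgroup G) : Prop :=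
  ∃ z ∈ invAt H a, ∃ w ∈ invAt H a, z ≠ w ∧ z ∈ centralizer (X : Set G) ∧
    w ∈ centralizer (X : Set G)

/-- An `r`-subgroup of the two-point stabiliser fixes just the two points or is centralised by two
involutions at the first. -/
def GoodFor (a b : G ⧸ H) (r : ℕ) : Prop :=
  ∀ X : Subgroup G, IsPGroup r X → X ≤ stab2 a b → X ≠ ⊥ → fixSet H X = {a, b} ∨ TwoAt H a X

end Cfsg.Agent.Bender27
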