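import Cfsg.Agent.Bender27.Basic
import Cfsg.Agent.BenderCons37.Glue
import Cfsg.Agent.LAE65.Subnormal

/-!
A two-point stabiliser with a nontrivial part centralising every involution at the first point:
that part is a Hall subgroup of the centraliser with a normal complement, and the Frattini argument
turns the complement into the regular normal subgroup.
-/

set_option autoImplicit false
set_option linter.unusedSectionVars false

namespace Cfsg.Agent.Bender27

open Subgroup MulAction Bender43 Bender43.Fixed Bender85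

universe u

variable {G : Type u} [Group G] [Finite G] {H : Subgroup G}

theorem mem_centInv {a : G ⧸ H} {x : G} :
    x ∈ centInv H a ↔ x • a = a ∧ ∀ i ∈ invAt H a, i * x = x * i := by
  rw [centInv, mem_inf, mem_stabilizer_iff, mem_centralizer_iff]

/-- The centraliser of the involutions at `a` is normalised by the stabiliser of `a`. -/
theorem conj_mem_centInv {a : G ⧸ H} {h x : G} (hh : h • a = a) (hx : x ∈ centInv H a) :
    h * x * h⁻¹ ∈ centInv H a := by
  rw [mem_centInv] at hx ⊢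
  refine ⟨by rw [mul_smul, mul_smul, inv_smul_eq_iff.2 hh.symm, hx.1, hh], fun i hi => ?_⟩
  have hi' : h⁻¹ * i * h ∈ invAt H a := ⟨by
      simpa [hi.1] using TwoFusionB.orderOf_conj_eq h⁻¹ i,
    by rw [mul_smul, mul_smul, hh, hi.2, inv_smul_eq_iff.2 hh.symm]⟩
  calc i * (h * x * h⁻¹) = h * ((h⁻¹ * i * h) * x) * h⁻¹ := by group
    _ = h * (x * (h⁻¹ * i * h)) * h⁻¹ := by rw [hx.2 _ hi']
    _ = h * x * h⁻¹ * i := by group

theorem wPart_le_centInv (a b : G ⧸ H) : wPart H a b ≤ centInv H a :=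
  fun _ hx => ⟨(mem_inf.1 (mem_inf.1 hx).1).1, (mem_inf.1 hx).2⟩

theorem mem_wPart_iff {a b : G ⧸ H} {x : G} (hx : x ∈ centInv H a) :
    x ∈ wPart H a b ↔ x • b = b :=
  ⟨fun h => mem_stabilizer_iff.1 (mem_inf.1 (mem_inf.1 h).1).2,
    fun h => ⟨⟨hx.1, mem_stabilizer_iff.2 h⟩, hx.2⟩⟩

/-- Every nontrivial subgroup of the part has two involutions in its centraliser. -/
theorem twoAt_of_le_wPart (hC : Ctx H) {b : G ⧸ H} {X : Subgroup G}
    (hX : X ≤ wPart H (pt H) b) : TwoAt H (pt H) X := by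
  obtain ⟨x, hx, y, hy, hx2, hy2, hne, -⟩ := BenderCons37.exists_four_mem hC.se hC.rank
  have hx' : x ∈ invAt H (pt H) := ⟨hx2, TwoFusionB.smul_one_eq_iff.2 hx⟩
  have hy' : y ∈ invAt H (pt H) := ⟨hy2, TwoFusionB.smul_one_eq_iff.2 hy⟩
  exact ⟨x, hx', y, hy', hne,
    mem_centralizer_iff.2 fun v hv => (mem_centralizer_iff.1 (mem_inf.1 (hX hv)).2 x hx').symm,
    mem_centralizer_iff.2 fun v hv => (mem_centralizer_iff.1 (mem_inf.1 (hX hv)).2 y hy').symm⟩

variable (hS : Step H) {b : G ⧸ H} (hb : pt H ≠ b)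
include hS hb

/-- A 2-group centralising `X` and the involutions at the base point, transitive on the other fixed
points of `X`. -/
theorem exists_twoGroup_wPart {X : Subgroup G} (hX1 : X ≠ ⊥) {r : ℕ} (hr : r.Prime)
    (hX : IsPGroup r X) (hXW : X ≤ wPart H (pt H) b) :
    ∃ T : Subgroup G, IsPGroup 2 T ∧ T ≤ centInv H (pt H) ⊓ centralizer (X : Set G) ∧
      ∀ q ∈ fixSet H X, q ≠ pt H → ∃ t ∈ T, t • b = q := by
  obtain ⟨T, hT2, hTle, hTc, htr⟩ := exists_twoGroup hS hb hX1 hr hX (hXW.trans inf_le_left)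
    (twoAt_of_le_wPart hS.ctx hXW)
  refine ⟨T, hT2, fun t ht => ⟨⟨(hTle ht).2, mem_centralizer_iff.2 fun i hi => ?_⟩, (hTle ht).1⟩, htr⟩
  exact (hTc t ht i hi (mem_centralizer_iff.2 fun v hv =>
    (mem_centralizer_iff.1 (mem_inf.1 (hXW hv)).2 i hi).symm)).eq.symm

theorem odd_wPart : Odd (Nat.card (wPart H (pt H) b)) :=
  (odd_stab2 hS.ctx.se hb).of_dvd_nat (card_dvd_of_le inf_le_left)

/-- A Sylow subgroup of the part is one of the centraliser of the involutions. -/
theorem not_dvd_relIndex_centInv {p : ℕ} [Fact p.Prime] {P : Subgroup G} (hP1 : P ≠ ⊥)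
    (hP : IsPGroup p P) (hPW : P ≤ wPart H (pt H) b)
    (hidx : ¬ p ∣ P.relIndex (wPart H (pt H) b)) : ¬ p ∣ P.relIndex (centInv H (pt H)) := by
  set W := wPart H (pt H) b with hW
  set C := centInv H (pt H) with hC
  intro hd
  obtain ⟨T, hT2, hTle, htr⟩ := exists_twoGroup_wPart hS hb hP1 Fact.out hP hPW
  obtain ⟨S, hPS, hSC, hS', hSi⟩ := LAE65.exists_sylow_in (hPW.trans (wPart_le_centInv _ _)) hP
  have hlt : P < S := lt_of_le_of_ne hPS fun e => hSi (e ▸ hd)
  obtain ⟨s, hs, hsN, hsP⟩ := exists_normalizer_gt hS' hlt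
  set N := C ⊓ normalizer (P : Set G) with hN
  set M := W ⊓ normalizer (P : Set G) with hM
  have hTN : T ≤ N := fun t ht => ⟨(hTle ht).1, centralizer_le_normalizer _ (hTle ht).2⟩
  have hMN : M ≤ N := inf_le_inf_right _ (wPart_le_centInv _ _)
  let f : T × M → N := fun x => ⟨(x.1 : G) * (x.2 : G), mul_mem (hTN x.1.2) (hMN x.2.2)⟩
  have hf : Function.Bijective f := by
    refine ⟨fun x y h => ?_, fun n => ?_⟩
    · have h' : (x.1 : G) * x.2 = y.1 * y.2 := congrArg Subtype.val h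
      have hz : (y.1 : G)⁻¹ * x.1 ∈ T ⊓ W := by
        refine mem_inf.2 ⟨mul_mem (inv_mem y.1.2) x.1.2, ?_⟩
        rw [show (y.1 : G)⁻¹ * x.1 = y.2 * (x.2 : G)⁻¹ by
          rw [eq_mul_inv_iff_mul_eq, mul_assoc, h', inv_mul_cancel_left]]
        exact mul_mem (mem_inf.1 y.2.2).1 (inv_mem (mem_inf.1 x.2.2).1)
      have h1 : T ⊓ W = ⊥ := by
        rw [← card_eq_one]
        obtain ⟨k, hk⟩ := IsPGroup.iff_card.1 hT2
        refine Nat.eq_one_of_dvd_coprimes ?_ (card_dvd_of_le inf_le_left) (card_dvd_of_le inf_le_right)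
        rw [hk]
        exact (Nat.coprime_two_left.2 (odd_wPart hS hb)).pow_left k
      rw [h1, mem_bot, inv_mul_eq_one] at hz
      refine Prod.ext (Subtype.ext hz.symm) (Subtype.ext ?_)
      rw [hz] at h'
      exact mul_left_cancel h'
    · obtain ⟨hnC, hnP⟩ := mem_inf.1 n.2
      have hbP : b ∈ fixSet H P := fun x hx =>
        mem_stabilizer_iff.1 (mem_inf.1 (mem_inf.1 (hPW hx)).1).2
      have hne : (n : G) • b ≠ pt H := fun e => hb (MulAction.injective (n : G)
        ((mem_centInv.1 hnC).1.trans e.symm))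
      obtain ⟨t, ht, htb⟩ := htr _ (smul_mem_fixSet hnP hbP) hne
      have hm : t⁻¹ * (n : G) ∈ M := by
        refine mem_inf.2 ⟨(mem_wPart_iff (mul_mem (inv_mem (hTle ht).1) hnC)).2 ?_,
          mul_mem (inv_mem (hTN ht).2) hnP⟩
        rw [mul_smul, ← htb, inv_smul_smul]
      exact ⟨(⟨t, ht⟩, ⟨_, hm⟩), Subtype.ext (mul_inv_cancel_left t n)⟩
  have hcard : Nat.card N = Nat.card T * Nat.card M := by
    rw [← Nat.card_eq_of_bijective f hf, Nat.card_prod]
  set K := P ⊔ zpowers s with hK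
  have hKS : K ≤ S := sup_le hPS (zpowers_le.2 hs)
  have hKN : K ≤ N := le_inf (hKS.trans hSC) (sup_le le_normalizer (zpowers_le.2 hsN))
  obtain ⟨k, hk⟩ := IsPGroup.iff_card.1 (hS'.to_le hKS)
  have hKW : p ^ k ∣ Nat.card W := by
    have h := card_dvd_of_le hKN
    rw [hcard, hk] at h
    obtain ⟨j, hj⟩ := IsPGroup.iff_card.1 hT2
    rw [hj] at h
    refine (Nat.Coprime.dvd_of_dvd_mul_left ?_ h).trans (card_dvd_of_le inf_le_left)
    refine ((Nat.coprime_primes Fact.out Nat.prime_two).2 ?_).pow k j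
    rintro rfl
    obtain ⟨i, hi⟩ := IsPGroup.iff_card.1 hP
    rcases Nat.eq_zero_or_pos i with rfl | hi0
    · exact hP1 (card_eq_one.1 hi)
    · have h2 := (odd_wPart hS hb).of_dvd_nat (card_dvd_of_le hPW)
      rw [hi, Nat.odd_pow_iff hi0.ne'] at h2
      exact absurd h2 (by decide)
  have hPK : P < K := lt_of_le_of_ne le_sup_left fun e =>
    hsP (e.symm ▸ mem_sup_right (mem_zpowers s))
  obtain ⟨i, hi⟩ := IsPGroup.iff_card.1 hP
  have hcop : (p ^ k).Coprime (P.relIndex W) :=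
    ((Fact.out : p.Prime).coprime_iff_not_dvd.2 hidx).pow_left k
  have hmul : Nat.card P * P.relIndex W = Nat.card W := by
    rw [← Nat.card_congr (subgroupOfEquivOfLe hPW).toEquiv]
    exact card_mul_index _
  rw [← hmul] at hKW
  exact hPK.ne (eq_of_le_of_card_ge hPK.le
    (hk ▸ Nat.le_of_dvd Nat.card_pos (hcop.dvd_of_dvd_mul_right hKW)))

/-- If a two-point stabiliser has a nontrivial part centralising the involutions at the first point
there is a regular normal subgroup. -/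
theorem hasSplit_of_wPart_ne_bot (hW : wPart H (pt H) b ≠ ⊥) : HasSplit H := by
  classical
  set W := wPart H (pt H) b with hWd
  set C := centInv H (pt H) with hCd
  have hWC : W ≤ C := wPart_le_centInv _ _
  have hWodd : Odd (Nat.card W) := odd_wPart hS hb
  -- Sylow subgroups
  have hSyl : ∀ p : ℕ, p.Prime → p ∣ Nat.card W → ∃ P : Subgroup G, P ≠ ⊥ ∧ IsPGroup p P ∧
      P ≤ W ∧ ¬ p ∣ P.relIndex W ∧ ¬ p ∣ P.relIndex C := by
    intro p hp hpd
    haveI := Fact.mk hp
    obtain ⟨P, -, hPW, hP, hPi⟩ := LAE65.exists_sylow_in (bot_le : (⊥ : Subgroup G) ≤ W)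
      (IsPGroup.of_bot (p := p))
    have hP1 : P ≠ ⊥ := by
      rintro rfl
      rw [relIndex_bot_left] at hPi
      exact hPi hpd
    exact ⟨P, hP1, hP, hPW, hPi, not_dvd_relIndex_centInv hS hb hP1 hP hPW hPi⟩
  have hHall : (Nat.card W).Coprime (W.relIndex C) := by
    refine Nat.coprime_of_dvd fun p hp hpW hpi => ?_
    obtain ⟨P, -, -, hPW, -, hPC⟩ := hSyl p hp hpW
    exact hPC (hpi.trans ⟨P.relIndex W, by rw [mul_comm]; exact (relIndex_mul_relIndex P W C hPW hWC).symm⟩)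
  -- the Frattini argument
  have hfrat : ∀ h : G, h • pt H = pt H → ∃ c ∈ C, c⁻¹ * h ∈ stab2 (pt H) b := by
    intro h hh
    obtain ⟨p, hp, hpd⟩ := Nat.exists_prime_and_dvd fun e => hW (card_eq_one.1 e)
    haveI := Fact.mk hp
    obtain ⟨P, hP1, hP, hPW, -, hPC⟩ := hSyl p hp hpd
    obtain ⟨T, -, hTle, htr⟩ := exists_twoGroup_wPart hS hb hP1 hp hP hPW
    have hnorm : h ∈ normalizer (C : Set G) := mem_normalizer_iff.2 fun x =>
      ⟨fun hx => conj_mem_centInv hh hx, fun hx => by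
        have := conj_mem_centInv (inv_smul_eq_iff.2 hh.symm) hx
        rwa [inv_inv, show h⁻¹ * (h * x * h⁻¹) * h = x by group] at this⟩
    obtain ⟨c, hc, he⟩ := LAE65.exists_conj_eq_in (p := p) (H := C)
      (P := P.map (MulAut.conj h).toMonoidHom) (Q := P)
      (LAE65.map_conj_le_of_normalizer (hPW.trans hWC) hnorm) (hPW.trans hWC) (hP.map _) hP
      (by rw [LAE65.not_dvd_relIndex_map_conj hnorm]; exact hPC) hPC
    rw [LAE65.map_conj_mul] at he
    have hchP : c * h ∈ normalizer (P : Set G) := LAE65.mem_normalizer_iff_map.2 he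
    have hchb : (c * h) • pt H = pt H := by rw [mul_smul, hh, (mem_centInv.1 hc).1]
    have hbP : b ∈ fixSet H P := fun x hx =>
      mem_stabilizer_iff.1 (mem_inf.1 (mem_inf.1 (hPW hx)).1).2
    obtain ⟨t, ht, htb⟩ := htr _ (smul_mem_fixSet hchP hbP) fun e =>
      hb (MulAction.injective (c * h) (hchb.trans e.symm))
    refine ⟨c⁻¹ * t, mul_mem (inv_mem hc) (hTle ht).1, mem_inf.2
      ⟨mem_stabilizer_iff.2 ?_, mem_stabilizer_iff.2 ?_⟩⟩
    · rw [mul_inv_rev, inv_inv, mul_assoc, mul_smul, hchb,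
        inv_smul_eq_iff, (mem_centInv.1 (hTle ht).1).1]
    · rw [mul_inv_rev, inv_inv, mul_assoc, mul_smul, ← htb, inv_smul_smul]
  -- the complement in the centraliser
  set W' : Subgroup C := W.subgroupOf C with hW'
  have hW'card : Nat.card W' = Nat.card W := Nat.card_congr (subgroupOfEquivOfLe hWC).toEquiv
  haveI : Group.IsSolvable W' := solvable_of_odd (hW'card ▸ hWodd)
  set TC : Set C := {t | (orderOf t).Coprime (Nat.card W')} with hTC
  obtain ⟨M, hMn, hTM, hsup, hinf⟩ := BenderCons37.exists_normal_complement W' TC (fun t ht => ht)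
    (fun M hMn hTM _ r hr hrE => by
      haveI := Fact.mk hr
      obtain ⟨P, -, hP, hPW, -, hPC⟩ := hSyl r hr
        (hW'card ▸ hrE.trans (card_dvd_of_le inf_le_right))
      have hP' : IsPGroup r (P.subgroupOf C) := hP.of_equiv (subgroupOfEquivOfLe (hPW.trans hWC)).symm
      refine ⟨P.subgroupOf C ⊓ M, le_inf inf_le_right (inf_le_left.trans fun x hx => hPW hx),
        hP'.to_le inf_le_left, LAE65.not_dvd_relIndex_inf_of_normal (hP'.toSylow hPC) hMn, ?_⟩
      intro x hx u hu hux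
      rcases eq_or_ne x 1 with rfl | hx1
      · exact ⟨1, one_mem _, by simp⟩
      have hxP : (x : G) ∈ P := hx.1
      obtain ⟨d, hd, he⟩ := BenderCons37.control_of_centralizer_transitive (x := x) (b := b) hu
        ((mem_wPart_iff (u * x * u⁻¹).2).1 (hPW hux.1)) fun v hv hvb => by
        obtain ⟨T, hT2, hTle, htr⟩ := exists_twoGroup_wPart hS hb (X := zpowers (x : G))
          (zpowers_ne_bot.2 fun e => hx1 (Subtype.ext e)) hr (hP.to_le (zpowers_le.2 hxP))
          ((zpowers_le.2 hxP).trans hPW)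
        have hfix : (v : G) • b ∈ fixSet H (zpowers (x : G)) := fun y hy =>
          mem_stabilizer_iff.1 ((zpowers_le.2 (show (x : G) ∈ stabilizer G ((v : G) • b) from
            mem_stabilizer_iff.2 hvb)) hy)
        obtain ⟨t, ht, htb⟩ := htr _ hfix fun e =>
          hb (MulAction.injective (v : G) ((mem_centInv.1 v.2).1.trans e.symm))
        refine ⟨⟨t, (hTle ht).1⟩, hTM ?_, Subtype.ext ?_, htb⟩
        · show (orderOf _).Coprime _
          obtain ⟨k, hk⟩ := hT2 ⟨t, ht⟩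
          rw [hW'card, Subgroup.orderOf_mk]
          refine Nat.Coprime.coprime_dvd_left (orderOf_dvd_of_pow_eq_one (congrArg Subtype.val hk)) ?_
          exact (Nat.coprime_two_left.2 hWodd).pow_left k
        · exact (mem_centralizer_iff.1 (hTle ht).2 (x : G) (mem_zpowers _)).symm
      exact ⟨d, mem_inf.2 ⟨(mem_inf.1 hd).1, mem_subgroupOf.2 ((mem_wPart_iff d.2).2
        (mem_stabilizer_iff.1 (mem_inf.1 hd).2))⟩, he⟩)
  have hMcard : (Nat.card M).Coprime (Nat.card W') := by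
    have hc : IsComplement' M W' := isComplement'_of_disjoint_and_mul_eq_univ (disjoint_iff.2 hinf)
      (by rw [← normal_mul, hsup]; rfl)
    rw [← hc.index_eq_card, hW'card]
    exact hHall.symm
  have hMmem : ∀ x : C, x ∈ M ↔ (orderOf x).Coprime (Nat.card W') := fun x =>
    ⟨fun hx => hMcard.coprime_dvd_left (orderOf_dvd_natCard M hx), fun hx => hTM hx⟩
  set Q := M.map C.subtype with hQ
  have hCH : C ≤ H := fun x hx => TwoFusionB.smul_one_eq_iff.1 (mem_centInv.1 hx).1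
  have hQC : Q ≤ C := map_subtype_le M
  have hQn : (Q.subgroupOf H).Normal := by
    refine ⟨?_⟩
    rintro ⟨x, hxH⟩ ⟨m, hm, hmx⟩ ⟨h, hhH⟩
    have hmx' : (m : G) = x := hmx
    refine ⟨⟨h * x * h⁻¹, conj_mem_centInv (TwoFusionB.smul_one_eq_iff.2 hhH) (hmx' ▸ m.2)⟩, ?_, rfl⟩
    rw [SetLike.mem_coe, hMmem, Subgroup.orderOf_mk, TwoFusionB.orderOf_conj_eq, ← hmx',
      Subgroup.orderOf_coe, ← hMmem]
    exact hm
  obtain ⟨g₀, rfl⟩ := QuotientGroup.mk_surjective b
  have hg₀ : g₀ ∉ H := fun hin => hb (QuotientGroup.eq.2 (by simpa using hin))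
  have hconj : ∀ x : G, x ∈ H.map (MulAut.conj g₀).toMonoidHom ↔
      x • (QuotientGroup.mk g₀ : G ⧸ H) = QuotientGroup.mk g₀ := fun x => by
    rw [LAE65.mem_map_conj_iff, TwoFusionB.smul_mk_eq_iff]
  refine ⟨Q, BenderCons37.isRegularNormal_of_complement hS.ctx.se hS.ctx.core (hQC.trans hCH) hQn
    hg₀ (fun h hh => ?_) ?_⟩
  · obtain ⟨c, hc, hd⟩ := hfrat h (TwoFusionB.smul_one_eq_iff.2 hh)
    obtain ⟨hda, hdb⟩ := mem_inf.1 hd
    have hd' : c⁻¹ * h ∈ H ⊓ H.map (MulAut.conj g₀).toMonoidHom :=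
      mem_inf.2 ⟨TwoFusionB.smul_one_eq_iff.1 hda, (hconj _).2 hdb⟩
    have hc' : c ∈ Q ⊔ H ⊓ H.map (MulAut.conj g₀).toMonoidHom := by
      have h1 : (⊤ : Subgroup C).map C.subtype ≤ Q ⊔ W := by
        rw [← hsup, Subgroup.map_sup, hW', subgroupOf_map_subtype, inf_eq_left.2 hWC]
      refine (sup_le_sup_left (fun x hx => ?_) Q) (h1 ⟨⟨c, hc⟩, mem_top _, rfl⟩)
      exact mem_inf.2 ⟨hCH (hWC hx), (hconj x).2 ((mem_wPart_iff (hWC hx)).1 hx)⟩
    simpa using mul_mem hc' (mem_sup_right hd')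
  · refine (Subgroup.eq_bot_iff_forall _).2 ?_
    rintro _ ⟨⟨m, hm, rfl⟩, hmD⟩
    have : m ∈ M ⊓ W' := mem_inf.2 ⟨hm, mem_subgroupOf.2 ((mem_wPart_iff m.2).2 ((hconj _).1 hmD))⟩
    rw [hinf, mem_bot] at this
    rw [this]; rfl

end Cfsg.Agent.Bender27
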