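import Cfsg.Agent.Bender27.Control
import Cfsg.Agent.Bender27.Frattini
import Cfsg.Agent.Bender27.Structure
import Cfsg.Agent.Bender27.Galois
import Cfsg.Agent.Bender27.Adapter
import Cfsg.Agent.Bender27.Comm
import Cfsg.Agent.Bender27.CyclicSylow
import Cfsg.Agent.BenderCons37.CtxOfSplit

/-!
Bender's structure theorem, assembled.
-/

set_option autoImplicit false
set_option linter.unusedSectionVars false

namespace Cfsg.Agent.Bender27

open Subgroup MulAction Bender43 Bender43.Fixed Bender85

universe u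

variable {G : Type u} [Group G] [Finite G] {H : Subgroup G}

/-- With commuting involutions at `a`, their number is one less than a power of 2. -/
theorem exists_exp (hZ : Comm H) (a : G ⧸ H) : ∃ e : ℕ, (invAt H a).ncard + 1 = 2 ^ e := by
  haveI := Fact.mk Nat.prime_two
  have h2 : IsPGroup 2 (invSub hZ a) := fun x => ⟨1, Subtype.ext (by
    rw [pow_one, pow_two]; exact mul_self_invSub hZ x.2)⟩
  obtain ⟨e, he⟩ := IsPGroup.iff_card.1 h2
  refine ⟨e, ?_⟩
  rw [← he, show Nat.card (invSub hZ a) = (insert (1 : G) (invAt H a)).ncard from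
    (Nat.card_coe_set_eq _).trans (congrArg Set.ncard (Set.ext fun x => Iff.rfl)),
    Set.ncard_insert_of_notMem fun h => TwoFusionB.ne_one_of_inv h.1 rfl]

/-- The step. -/
theorem hasSplit_of_step (hS : Step H) : HasSplit H := by
  obtain ⟨b, hb⟩ := TwoFusionB.exists_ne_coset hS.ctx.se (pt H)
  by_cases hW : wPart H (pt H) b = ⊥
  swap
  · exact hasSplit_of_wPart_ne_bot hS hb hW
  obtain ⟨u, c, hu⟩ := exists_swap hS.ctx hb
  obtain ⟨z, K, B, hD⟩ := exists_dStruct hS.ctx hS.comm hu fun d hd h => by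
    have : d ∈ wPart H (pt H) b :=
      mem_inf.2 ⟨hd, mem_centralizer_iff.2 fun v hv => (h v hv).eq.symm⟩
    rwa [hW, mem_bot] at this
  by_cases hf : ∀ y ∈ B, y ≠ 1 → ∀ k ∈ K, Commute y k → k = 1
  · exact hasSplit_of_free hS hu hD hf
  refine hasSplit_of_control hS hb fun M hM hT r hr hrE => ?_
  by_cases hg : GoodFor H (pt H) b r
  · exact sylowControl_of_goodFor hS hb hT hr hrE hg
  obtain ⟨e, he⟩ := exists_exp hS.comm (pt H)
  obtain ⟨j, hj0, hej, hB⟩ := goodFor_or_big hS hu hD hr hg he
  rcases Nat.lt_or_ge j 2 with hj | hj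
  · exfalso
    obtain rfl : j = 1 := by omega
    rw [pow_one] at hej hB
    push Not at hf
    obtain ⟨y, hy, hy1, k, hk, hyk, hk1⟩ := hf
    haveI := Fact.mk hr
    have hYB : zpowers y = B := by
      refine eq_of_le_of_card_ge (zpowers_le.2 hy) ?_
      rw [hB, Nat.card_zpowers]
      have h := orderOf_dvd_natCard (⟨y, hy⟩ : B)
      rw [Subgroup.orderOf_mk, hB] at h
      rcases hr.eq_one_or_self_of_dvd _ h with h | h
      · exact absurd (orderOf_eq_one_iff.1 h) hy1
      · exact h.ge
    have h := card_fixed hD le_rfl he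
    rw [hB, hej] at h
    have h1 := Nat.pow_left_injective hr.ne_zero h
    have hbot : K ⊓ centralizer (B : Set G) = ⊥ := Subgroup.card_eq_one.1 (by omega)
    refine hk1 (mem_bot.1 (hbot ▸ mem_inf.2 ⟨hk, mem_centralizer_iff.2 fun w hw => ?_⟩))
    rw [← hYB] at hw
    obtain ⟨i, rfl⟩ := mem_zpowers_iff.1 hw
    exact (hyk.zpow_left i).eq
  · rw [hej] at he
    haveI := hM
    exact sylowControl_of_bigPow hS hu hD hr hj hB he hT hrE

/-- Bender's structure theorem. -/
theorem benderSplit : BenderCons37.BenderSplit.{u} :=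
  BenderCons37.benderSplit_of_step fun X _ _ K hb hK h2 hO => by
    have hC := BenderCons37.ctx_of_split hb hK h2 hO
    exact hasSplit_of_step ⟨hC, hb, comm hC⟩

end Cfsg.Agent.Bender27
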