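import Cfsg.Agent.Bender20.RankThree
import Cfsg.Agent.BenderCons37.Glue
import Mathlib.FieldTheory.Finiteness

/-!
Bender's theorem, the case of eight central involutions and a two-point stabiliser of order `21`
acting faithfully on them: the centraliser of the elementary group gives the regular normal
subgroup (helper7).
-/

set_option autoImplicit false
set_option linter.unusedSectionVars false

namespace Cfsg.Agent.Bender27

open Subgroup MulAction

universe u

variable {G : Type u} [Group G] [Finite G] {H : Subgroup G}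

/-- The rank three case. -/
theorem exists_regularNormal_of_rank_three (hH : Cfsg.IsStronglyEmbedded H)
    (hO : Cfsg.oddCore G = ⊥) (hgen : closure {x : G | orderOf x = 2} = ⊤) {u : G} (hu : u ∉ H)
    (Z : Subgroup G) (hZn : H ≤ normalizer (Z : Set G)) (hZcard : Nat.card Z = 8)
    (hZinv : ∀ x ∈ Z, x * x = 1)
    (hcent : ∀ x ∈ H, orderOf x = 2 → x ∈ centralizer (Z : Set G))
    (hD : Nat.card ↥(H ⊓ H.map (MulAut.conj u).toMonoidHom) = 21)
    (hDC : H ⊓ H.map (MulAut.conj u).toMonoidHom ⊓ centralizer (Z : Set G) = ⊥) :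
    ∃ Q : Subgroup G, BenderCons37.IsRegularNormal H Q := by
  classical
  set D := H ⊓ H.map (MulAut.conj u).toMonoidHom with hDdef
  -- the action on `Z`
  let φ : H →* MulAut Z := Z.normalizerMonoidHom.comp (Subgroup.inclusion hZn)
  have hφ : ∀ h : H, φ h = 1 ↔ (h : G) ∈ centralizer (Z : Set G) := fun h => by
    have hk := SetLike.ext_iff.1 (Subgroup.normalizerMonoidHom_ker Z) (Subgroup.inclusion hZn h)
    exact hk
  let _iC : CommGroup Z :=
    { (inferInstance : Group Z) with
      mul_comm := fun a b => by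
        have hsq : ∀ c : Z, c * c = 1 := fun c => Subtype.ext (hZinv c c.2)
        have hinv : ∀ c : Z, c⁻¹ = c := fun c => inv_eq_of_mul_eq_one_right (hsq c)
        rw [← hinv (a * b), mul_inv_rev, hinv, hinv] }
  let _iM : Module (ZMod 2) (Additive Z) := AddCommGroup.zmodModule fun x => by
    rw [two_nsmul]; exact congrArg Additive.ofMul (Subtype.ext (hZinv (Additive.toMul x).1 (Additive.toMul x).2))
  have hfin : Module.finrank (ZMod 2) (Additive Z) = 3 := by
    have h := Module.natCard_eq_pow_finrank (K := ZMod 2) (V := Additive Z)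
    rw [Nat.card_zmod, Nat.card_congr (Additive.toMul : Additive Z ≃ Z), hZcard] at h
    exact (Nat.pow_right_injective le_rfl (show 2 ^ 3 = 2 ^ Module.finrank (ZMod 2) (Additive Z) from h)).symm
  let toLin : MulAut Z →* (Additive Z ≃ₗ[ZMod 2] Additive Z) :=
    { toFun := fun e =>
        LinearEquiv.ofBijective ((MulEquiv.toAdditive e).toAddMonoidHom.toZModLinearMap 2)
          (MulEquiv.toAdditive e).bijective
      map_one' := LinearEquiv.ext fun x => rfl
      map_mul' := fun e e' => LinearEquiv.ext fun x => rfl }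
  have hinj : Function.Injective toLin := fun e e' h => by
    refine MulEquiv.ext fun z => ?_
    exact congrArg Additive.toMul (LinearEquiv.congr_fun h (Additive.ofMul z))
  have hker : ∀ h : H, orderOf h = 2 → φ.rangeRestrict h = 1 := fun h hh =>
    Subtype.ext ((hφ h).2 (hcent h h.2 (by rw [Subgroup.orderOf_coe, hh])))
  have h2t : ∀ g : G, g ∉ H → ∃ a ∈ H, ∃ b ∈ H, g = a * u * b := fun g hg => by
    obtain ⟨a, ha, hab⟩ := BenderCons37.transitive_of_core hH hO hu hg
    exact ⟨a, ha, _, inv_mem hab, by group⟩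
  have hinjD : Function.Injective ((φ.rangeRestrict).comp
      (Subgroup.inclusion (inf_le_left : D ≤ H))) := by
    rw [injective_iff_map_eq_one]
    intro d hd
    have h1 : (d : G) ∈ centralizer (Z : Set G) := (hφ _).1 (congrArg Subtype.val hd)
    have h2 : (d : G) ∈ D ⊓ centralizer (Z : Set G) := ⟨d.2, h1⟩
    rw [hDC, mem_bot] at h2
    exact Subtype.ext h2
  have himage : (D.subgroupOf H).map φ.rangeRestrict =
      ((φ.rangeRestrict).comp (Subgroup.inclusion (inf_le_left : D ≤ H))).range := by
    ext y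
    constructor
    · rintro ⟨h, hh, rfl⟩
      exact ⟨⟨h, hh⟩, rfl⟩
    · rintro ⟨d, rfl⟩
      exact ⟨_, d.2, rfl⟩
  have hcard : Nat.card ↥((D.subgroupOf H).map φ.rangeRestrict) = 21 := by
    rw [himage, Nat.card_congr (MonoidHom.ofInjective hinjD).toEquiv.symm, hD]
  have h21 : Nat.card φ.range = 21 := Bender20.card_eq_of_rank_three_module hH hgen h2t
    φ.rangeRestrict φ.rangeRestrict_surjective hker hfin (toLin.comp φ.range.subtype)
    (hinj.comp Subtype.val_injective) hcard
  have htop : (D.subgroupOf H).map φ.rangeRestrict = ⊤ :=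
    Subgroup.eq_top_of_card_eq _ (hcard.trans h21.symm)
  -- the complement
  refine ⟨H ⊓ centralizer (Z : Set G), BenderCons37.isRegularNormal_of_complement hH hO inf_le_left
    ?_ hu ?_ ?_⟩
  · have heq : (H ⊓ centralizer (Z : Set G)).subgroupOf H = φ.ker := by
      ext h
      rw [MonoidHom.mem_ker, hφ, mem_subgroupOf, mem_inf]
      exact and_iff_right h.2
    rw [heq]; infer_instance
  · intro h hh
    obtain ⟨d, hd, hde⟩ := (htop ▸ mem_top (φ.rangeRestrict ⟨h, hh⟩) :
      φ.rangeRestrict ⟨h, hh⟩ ∈ (D.subgroupOf H).map φ.rangeRestrict)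
    have hc : (⟨h, hh⟩ : H) * d⁻¹ ∈ φ.ker := by
      rw [← MonoidHom.ker_rangeRestrict φ, MonoidHom.mem_ker, map_mul, map_inv, ← hde,
        mul_inv_cancel]
    have h1 : (((⟨h, hh⟩ : H) * d⁻¹ : H) : G) ∈ H ⊓ centralizer (Z : Set G) :=
      ⟨Subtype.prop _, (hφ _).1 hc⟩
    have h2 := mul_mem (Subgroup.mem_sup_left (T := D) h1)
      (Subgroup.mem_sup_right (S := H ⊓ centralizer (Z : Set G)) (show (d : G) ∈ D from hd))
    rw [hDdef] at h2
    simpa using h2
  · rw [eq_bot_iff, ← hDC]
    exact fun x hx => ⟨⟨hx.1.1, hx.2⟩, hx.1.2⟩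

end Cfsg.Agent.Bender27
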