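import Cfsg.Agent.Bender27.Structure
import Cfsg.Agent.Bender42.Setup
import Cfsg.Agent.BenderCons37.Glue

/-!
From `D = K : B` to the last configuration: for prime `e`, the centraliser of a non-trivial element
of `K` is `K`.
-/

set_option autoImplicit false

namespace Cfsg.Agent.Bender27

open Subgroup MulAction Bender43 Bender43.Fixed Bender85

universe u

variable {G : Type u} [Group G] [Finite G] {H : Subgroup G} {u z : G} {a b c : G ⧸ H}
  {K B : Subgroup G}

/-- The fixed involutions of an element of `B` correspond to its centraliser in `K`. -/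
theorem DStruct.card_centralizer (S : DStruct u z a b K B) (hZ : Comm H) {e : ℕ}
    (he : (invAt H a).ncard + 1 = 2 ^ e) {y : G} (hy : y ∈ B) :
    ∃ j : ℕ, j ∣ e ∧ Nat.card (K ⊓ centralizer ({y} : Set G) : Subgroup G) + 1 = 2 ^ j := by
  classical
  haveI : Fact (Nat.Prime 2) := ⟨Nat.prime_two⟩
  set L : Subgroup G := invSub hZ a ⊓ centralizer ({y} : Set G) with hL
  set C : Subgroup G := K ⊓ centralizer ({y} : Set G) with hC
  have hyz : y * z * y⁻¹ = z := by rw [← (S.B_z y hy).eq, mul_inv_cancel_right]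
  have hcard : Nat.card L = Nat.card C + 1 := by
    have hLset : (L : Set G) = insert 1 ((fun k => k * z * k⁻¹) '' (C : Set G)) := by
      ext x
      constructor
      · rintro ⟨hx | hx, hxy⟩
        · exact Or.inl hx
        · obtain ⟨k, hk, rfl⟩ := S.reg z S.z_mem x hx
          refine Or.inr ⟨k, ⟨hk, ?_⟩, rfl⟩
          have hk' := S.B_norm y (S.B_le hy) k hk
          have hc : k⁻¹ * (y * k * y⁻¹) = 1 := by
            refine S.free _ (mul_mem (inv_mem hk) hk') z S.z_mem ?_
            have h1 : y * (k * z * k⁻¹) * y⁻¹ = k * z * k⁻¹ := by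
              rw [← mem_centralizer_singleton_iff.1 hxy, mul_inv_cancel_right]
            show k⁻¹ * (y * k * y⁻¹) * z = z * (k⁻¹ * (y * k * y⁻¹))
            calc k⁻¹ * (y * k * y⁻¹) * z = k⁻¹ * (y * k * y⁻¹) * (y * z * y⁻¹) := by rw [hyz]
              _ = k⁻¹ * (y * (k * z * k⁻¹) * y⁻¹) * (y * k * y⁻¹) := by group
              _ = k⁻¹ * (k * z * k⁻¹) * (y * k * y⁻¹) := by rw [h1]
              _ = z * (k⁻¹ * (y * k * y⁻¹)) := by group
          rw [inv_mul_eq_one] at hc
          exact mem_centralizer_singleton_iff.2 (eq_mul_inv_iff_mul_eq.1 hc)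
      · rintro (rfl | ⟨k, hk, rfl⟩)
        · exact one_mem L
        · obtain ⟨hkK, hky⟩ := mem_inf.1 hk
          exact ⟨conj_mem_invSub hZ (mem_stabilizer_iff.1 (mem_inf.1 (S.K_le hkK)).1)
              (Or.inr S.z_mem),
            mul_mem (s := centralizer ({y} : Set G))
              (mul_mem hky (mem_centralizer_singleton_iff.2 (S.B_z y hy).eq)) (inv_mem hky)⟩
    have h1 : (1 : G) ∉ (fun k => k * z * k⁻¹) '' (C : Set G) := by
      rintro ⟨k, -, hk⟩
      exact TwoFusionB.ne_one_of_inv ((TwoFusionB.orderOf_conj_eq k z).trans S.z_mem.1) hk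
    rw [show Nat.card L = (L : Set G).ncard from Nat.card_coe_set_eq _, hLset,
      Set.ncard_insert_of_notMem h1, Set.ncard_image_of_injOn, ← Nat.card_coe_set_eq]
    · rfl
    intro k hk l hl hkl
    refine (inv_mul_eq_one.1 (S.free _ (mul_mem (inv_mem (mem_inf.1 hl).1) (mem_inf.1 hk).1) z
      S.z_mem ?_)).symm
    show l⁻¹ * k * z = z * (l⁻¹ * k)
    calc l⁻¹ * k * z = l⁻¹ * (k * z * k⁻¹) * k := by group
      _ = l⁻¹ * (l * z * l⁻¹) * k := by rw [show k * z * k⁻¹ = l * z * l⁻¹ from hkl]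
      _ = z * (l⁻¹ * k) := by group
  have h2 : IsPGroup 2 L := fun x => ⟨1, Subtype.ext (by
    rw [pow_one, sq]
    exact mul_self_invSub hZ (mem_inf.1 x.2).1)⟩
  obtain ⟨j, hj⟩ := IsPGroup.iff_card.1 h2
  refine ⟨j, ?_, by rw [← hcard, hj]⟩
  have hdvd : 2 ^ j - 1 ∣ 2 ^ e - 1 := by
    rw [← hj, hcard, ← he, Nat.add_sub_cancel, Nat.add_sub_cancel, ← S.card_K]
    exact card_dvd_of_le inf_le_left
  have hg : 2 ^ Nat.gcd j e - 1 = 2 ^ j - 1 := by
    rw [← Nat.pow_sub_one_gcd_pow_sub_one, Nat.gcd_eq_left hdvd]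
  have : Nat.gcd j e = j := Nat.pow_right_injective le_rfl (by
    have h1 := Nat.one_le_two_pow (n := Nat.gcd j e)
    have h2 := Nat.one_le_two_pow (n := j)
    omega : (2 : ℕ) ^ Nat.gcd j e = 2 ^ j)
  exact this ▸ Nat.gcd_dvd_right j e

/-- For prime `e`, `B` acts fixed-point-freely on `K`. -/
theorem DStruct.eq_one_of_commute (S : DStruct u z a b K B) (hZ : Comm H) {e : ℕ} (hep : e.Prime)
    (he : (invAt H a).ncard + 1 = 2 ^ e) {y k : G} (hy : y ∈ B) (hk : k ∈ K) (hk1 : k ≠ 1)
    (h : Commute y k) : y = 1 := by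
  obtain ⟨j, hje, hj⟩ := S.card_centralizer hZ he hy
  set C : Subgroup G := K ⊓ centralizer ({y} : Set G) with hC
  have hkC : k ∈ C := mem_inf.2 ⟨hk, mem_centralizer_singleton_iff.2 h.eq.symm⟩
  rcases (Nat.dvd_prime hep).1 hje with rfl | rfl
  · have hC1 : Nat.card C = 1 := by omega
    rw [Subgroup.card_eq_one.1 hC1, mem_bot] at hkC
    exact absurd hkC hk1
  · have hCK : C = K := eq_of_le_of_card_ge inf_le_left (by rw [S.card_K]; omega)
    have hyK : y ∈ K := S.cent y (S.B_le hy) fun l hl =>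
      (mem_centralizer_singleton_iff.1 (mem_inf.1 (hCK.symm ▸ hl : l ∈ C)).2).symm
    exact mem_bot.1 (S.inf ▸ mem_inf.2 ⟨hyK, hy⟩)

/-- An element of `K` other than `1` fixes only the two points. -/
theorem DStruct.fix_eq (S : DStruct u z a b K B)
    (hex : ∀ x ∈ stab2 a b, u * x * u = x⁻¹ → (orderOf x).Prime →
      ∀ p : G ⧸ H, x • p = p → p = a ∨ p = b) {k : G} (hk : k ∈ K) (hk1 : k ≠ 1) {p : G ⧸ H}
    (hp : k • p = p) : p = a ∨ p = b := by
  obtain ⟨r, hr, hrd⟩ := Nat.exists_prime_and_dvd (fun h => hk1 (orderOf_eq_one_iff.1 h))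
  obtain ⟨n, hn⟩ := hrd
  have hn0 : n ≠ 0 := fun h => (orderOf_pos k).ne' (by rw [hn, h, mul_zero])
  have ho : orderOf (k ^ n) = r := by
    rw [orderOf_pow_of_dvd hn0 ⟨r, by rw [hn, mul_comm]⟩, hn, Nat.mul_div_cancel _ (by omega)]
  refine hex _ (S.K_le (pow_mem hk n)) (S.inverts _ (pow_mem hk n)) (ho ▸ hr) p ?_
  exact mem_stabilizer_iff.1 (pow_mem (mem_stabilizer_iff.2 hp) n)

/-- The last configuration. -/
theorem setup_of_dStruct (hC : Ctx H) (hZ : Comm H) {b c : G ⧸ H}
    (hu : Swap H u ((1 : G) : G ⧸ H) b c) (S : DStruct u z ((1 : G) : G ⧸ H) b K B) {e : ℕ}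
    (hep : e.Prime) (he : (invAt H ((1 : G) : G ⧸ H)).ncard + 1 = 2 ^ e)
    (hex : ∀ x ∈ stab2 ((1 : G) : G ⧸ H) b, u * x * u = x⁻¹ → (orderOf x).Prime →
      ∀ p : G ⧸ H, x • p = p → p = ((1 : G) : G ⧸ H) ∨ p = b) :
    Bender42.Setup H K B u z := by
  set o : G ⧸ H := ((1 : G) : G ⧸ H) with ho
  have hmem : ∀ {g : G}, g • o = o ↔ g ∈ H := fun {g} => TwoFusionB.smul_one_eq_iff
  have hui := TwoFusionB.inv_eq_of_inv hu.inv
  have huu := TwoFusionB.sq_eq_one_of_inv hu.inv
  have hbo : u • b = o := TwoFusionB.smul_swap hu.inv hu.swap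
  have hH : ∀ {d : G}, d ∈ stab2 o b → d ∈ H := fun hd => hmem.1 (mem_stabilizer_iff.1 (mem_inf.1 hd).1)
  have hinv : ∀ k ∈ K, u * k * u⁻¹ = k⁻¹ := fun k hk => by rw [hui]; exact S.inverts k hk
  refine
    { se := hC.se, trans := fun g₁ g₂ h₁ h₂ => BenderCons37.transitive_of_core hC.se hC.core h₁ h₂
      comm := hZ, u_ord := hu.inv
      u_out := fun h => hu.ne ((hmem.2 h).symm.trans hu.swap)
      z_mem := hmem.1 S.z_mem.2, z_ord := S.z_mem.1
      K_le := fun k hk => hH (S.K_le hk), B_le := fun y hy => hH (S.B_le hy)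
      stab := ?_, cc := ⟨?_, ?_⟩, K_ne := ?_, reg := ?_, inverts := hinv, B_u := S.B_u
      B_z := S.B_z, B_norm := fun y hy k hk => S.B_norm y (S.B_le hy) k hk, two_fix := ?_ }
  · intro d hd hud
    refine S.prod d (mem_inf.2 ⟨mem_stabilizer_iff.2 (hmem.2 hd), mem_stabilizer_iff.2 ?_⟩)
    have h := hmem.2 hud
    rw [hui, mul_smul, mul_smul, hu.swap] at h
    exact smul_left_cancel u (h.trans hbo.symm)
  · intro x hx y hy
    haveI := S.K_cyclic
    haveI : IsMulCommutative K := IsCyclic.isMulCommutative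
    exact congrArg Subtype.val (mul_comm' (⟨x, hx⟩ : K) ⟨y, hy⟩)
  · intro k hk hk1 g hg
    have hgk := mem_centralizer_singleton_iff.1 hg
    have hko : k • o = o := hmem.2 (hH (S.K_le hk))
    have hkb : k • b = b := mem_stabilizer_iff.1 (mem_inf.1 (S.K_le hk)).2
    have hmove : ∀ {h : G}, Commute h k → ∀ {p : G ⧸ H}, k • p = p → k • (h • p) = h • p :=
      fun {h} hh {p} hp => by rw [smul_smul, ← hh.eq, mul_smul, hp]
    -- no involution centralises `k`
    have hno : ∀ w : G, orderOf w = 2 → Commute w k → False := fun w hw hwk => by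
      obtain ⟨p, hp⟩ := TwoFusionB.exists_fix hC.se hw
      have hkp : k • p = p :=
        TwoFusionB.fix_unique hC.se hw (by rw [smul_smul, hwk.eq, mul_smul, hp]) hp
      rcases S.fix_eq hex hk hk1 hkp with rfl | rfl
      · exact hk1 (S.free k hk w ⟨hw, hp⟩ hwk.symm)
      · refine hk1 (inv_eq_one.1 (S.free k⁻¹ (inv_mem hk) (u * w * u⁻¹)
          ⟨(TwoFusionB.orderOf_conj_eq u w).trans hw, ?_⟩ ?_))
        · rw [hui, mul_smul, mul_smul, hu.swap, hp, hbo]
        · have h := (Commute.conj_iff (G := G) u).2 hwk.symm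
          rwa [hinv k hk] at h
    -- so the centraliser fixes both points
    have hgo : g • o = o := by
      rcases S.fix_eq hex hk hk1 (hmove hgk hko) with h | h
      · exact h
      exfalso
      have hgb : g • b = o := by
        rcases S.fix_eq hex hk hk1 (hmove hgk hkb) with h' | h'
        · exact h'
        · exact absurd (smul_left_cancel g (h.trans h'.symm)) hu.ne
      have hev : Even (Nat.card (centralizer ({k} : Set G))) := by
        rw [← Nat.not_odd_iff_even]
        intro hodd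
        obtain ⟨m, hm⟩ := hodd.of_dvd_nat (orderOf_dvd_natCard _ hg)
        have hsq : (g * g) ^ m • o = o := mem_stabilizer_iff.1
          (pow_mem (mem_stabilizer_iff.2 (by rw [mul_smul, h, hgb])) m)
        have h1 : g • o = o := by
          conv_rhs => rw [← one_smul G o, ← pow_orderOf_eq_one g, hm, pow_succ', pow_mul, pow_two,
            mul_smul, hsq]
        exact hu.ne (h1.symm.trans h)
      haveI : Fact (Nat.Prime 2) := ⟨Nat.prime_two⟩
      obtain ⟨w, hw, hw2⟩ := Involution.exists_involution_of_even hev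
      exact hno w hw2 (mem_centralizer_singleton_iff.1 hw)
    have hgb : g • b = b := by
      rcases S.fix_eq hex hk hk1 (hmove hgk hkb) with h' | h'
      · exact absurd (smul_left_cancel g (h'.trans hgo.symm)) hu.ne.symm
      · exact h'
    obtain ⟨l, hl, y, hy, rfl⟩ :=
      S.prod g (mem_inf.2 ⟨mem_stabilizer_iff.2 hgo, mem_stabilizer_iff.2 hgb⟩)
    have hyk : Commute y k := by
      haveI := S.K_cyclic
      haveI : IsMulCommutative K := IsCyclic.isMulCommutative
      have hlk : l * k = k * l := congrArg Subtype.val (mul_comm' (⟨l, hl⟩ : K) ⟨k, hk⟩)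
      show y * k = k * y
      calc y * k = l⁻¹ * (l * y * k) := by group
        _ = l⁻¹ * (k * l * y) := by rw [hgk]; group
        _ = l⁻¹ * (l * k * y) := by rw [hlk]
        _ = k * y := by group
    rw [S.eq_one_of_commute hZ hep he hy hk hk1 hyk, mul_one]
    exact hl
  · intro h
    have hK : (invAt H o).ncard = 1 := by rw [← S.card_K, h, Subgroup.card_bot]
    rw [hK] at he
    have : e = 1 := Nat.pow_right_injective le_rfl (he.symm.trans (pow_one 2).symm : (2 : ℕ) ^ e = 2 ^ 1)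
    exact hep.ne_one this
  · intro v hv hv2
    exact S.reg z S.z_mem v ⟨hv2, hmem.2 hv⟩
  · intro k hk hk1 g hg
    have h1 : k • (g • o) = g • o := by
      have := hmem.2 hg
      rw [mul_smul, mul_smul, inv_smul_eq_iff] at this
      exact this
    rcases S.fix_eq hex hk hk1 h1 with h | h
    · exact Or.inl (hmem.1 h)
    · exact Or.inr (hmem.1 (by rw [mul_smul, h, hbo]))

end Cfsg.Agent.Bender27
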